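import Cfsg.Agent.Lib.Leech.McLInvol.Generators
import Cfsg.Agent.Lib.Linear.GenTools
import Cfsg.Prelude.Def_SporadicB
import Mathlib.GroupTheory.SpecificGroups.Alternating.Simple

/-!
# The involution centraliser of the McLaughlin group is a double cover of `A₈`

* `isNonsplitDoubleCover_of_hom`
* `exists_hom_tCentralizer`
* `mcl_involutions`
-/

set_option autoImplicit false

open Cfsg

namespace Cfsg.Agent.Leech.McLInvol

/-- A central kernel of order two containing a square gives a non-split double cover. -/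
theorem isNonsplitDoubleCover_of_hom {H K : Type*} [Group H] [Group K] (φ : H →* K)
    (hφ : Function.Surjective φ) (hK : Subgroup.center K = ⊥) (hker : Nat.card φ.ker = 2)
    (hle : φ.ker ≤ Subgroup.center H) {x : H} (hx : x * x ∈ φ.ker) (hx1 : x * x ≠ 1) :
    Cfsg.IsNonsplitDoubleCover H K := by
  have hZ : Subgroup.center H = φ.ker := by
    refine le_antisymm (fun z hz => ?_) hle
    have : φ z ∈ Subgroup.center K := Subgroup.mem_center_iff.2 fun k => by
      obtain ⟨h, rfl⟩ := hφ k
      rw [← map_mul, ← map_mul, Subgroup.mem_center_iff.1 hz h]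
    rwa [hK, Subgroup.mem_bot] at this
  refine ⟨by rw [hZ]; exact hker, ⟨(QuotientGroup.quotientMulEquivOfEq hZ).trans
    (QuotientGroup.quotientKerEquivOfSurjective φ hφ)⟩, fun L hL => hx1 ?_⟩
  have hidx : L.index = 2 := by
    rw [hL.index_eq_card, hZ, hker]
  have hmem := Subgroup.mul_self_mem_of_index_two hidx x
  have := hL.disjoint.le_bot (show x * x ∈ Subgroup.center H ⊓ L from ⟨hle hx, hmem⟩)
  exact this

theorem word_altTriple : ∀ k : Fin 6, (((words.getD k []).map fun j =>
    rho (if h : j < 3 then ⟨j, h⟩ else 0)).prod) =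
      Linear.altTriple (⟨k.1 + 2, by omega⟩ : Fin (6 + 2)) := by
  decide +kernel

/-- The centraliser maps onto the alternating group with a kernel of order two. -/
theorem exists_hom_tCentralizer : ∃ φ : ↥(Subgroup.centralizer ({tEl} : Set mclGroup)) →*
    ↥(alternatingGroup (Fin 8)), Function.Surjective φ ∧ Nat.card φ.ker = 2 ∧
      ∀ x : ↥(Subgroup.centralizer ({tEl} : Set mclGroup)), x.1 = tEl → x ∈ φ.ker := by
  classical
  have hpos : Nat.card tCentralizer ≤ 40320 := natCard_tCentralizer
  let S : Set (Co0 × Equiv.Perm (Fin 8)) :=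
    Set.range (fun k => (gen k, rho k)) ∪ {((tEl : Co0), 1)}
  let P := Subgroup.closure S
  have hP : P ≤ goodGroup := (Subgroup.closure_le _).2 (Set.union_subset
    (Set.range_subset_iff.2 gen_good) (Set.singleton_subset_iff.2 tEl_good))
  let π1 : P →* tCentralizer :=
    ((MonoidHom.fst Co0 (Equiv.Perm (Fin 8))).comp P.subtype).codRestrict tCentralizer
      fun p => (hP p.2).1
  let π2 : P →* Equiv.Perm (Fin 8) := (MonoidHom.snd _ _).comp P.subtype
  have hinj : Function.Injective π1 := by
    refine (injective_iff_map_eq_one π1).2 fun p hp => ?_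
    have h1 : p.1.1 = 1 := congrArg Subtype.val hp
    have h2 : p.1.2 = 1 := eq_one_of_good (h1 ▸ hP p.2 : ((1 : Co0), p.1.2) ∈ goodGroup)
    exact Subtype.ext (Prod.ext h1 h2)
  have heven : ∀ p : P, π2 p ∈ alternatingGroup (Fin 8) := by
    have : P ≤ (alternatingGroup (Fin 8)).comap (MonoidHom.snd Co0 _) := by
      refine (Subgroup.closure_le _).2 (Set.union_subset (Set.range_subset_iff.2 fun k => ?_)
        (Set.singleton_subset_iff.2 (show (1 : Equiv.Perm (Fin 8)) ∈ alternatingGroup (Fin 8) from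
          one_mem _)))
      exact Equiv.Perm.mem_alternatingGroup.2 (sign_rho k)
    exact fun p => this p.2
  have hsurj : π2.range = alternatingGroup (Fin 8) := by
    refine le_antisymm (fun σ ⟨p, hp⟩ => hp ▸ heven p) fun σ hσ => ?_
    refine (Subgroup.closure_le _).2 ?_ (Linear.mem_closure_altTriple (n := 6) hσ)
    rintro _ ⟨k, hk, rfl⟩
    have hw := word_altTriple ⟨k.1 - 2, by omega⟩
    have hk' : (⟨k.1 - 2 + 2, by omega⟩ : Fin (6 + 2)) = k := Fin.ext (by simp only; omega)
    rw [hk'] at hw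
    rw [← hw]
    refine list_prod_mem fun r hr => ?_
    obtain ⟨j, -, rfl⟩ := List.mem_map.1 hr
    exact ⟨⟨(gen _, rho _), Subgroup.subset_closure (Or.inl ⟨_, rfl⟩)⟩, rfl⟩
  have hA : Nat.card ↥(alternatingGroup (Fin 8)) = 20160 := by
    rw [nat_card_alternatingGroup, Nat.card_eq_fintype_card, Fintype.card_fin]; rfl
  have hP2 : Nat.card π2.ker * 20160 = Nat.card P := by
    rw [← π2.ker.card_mul_index, Subgroup.index_ker, hsurj, hA]
  let p0 : P := ⟨((tEl : Co0), 1), Subgroup.subset_closure (Or.inr rfl)⟩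
  have hp0 : p0 ≠ 1 := fun h => by
    have : tEl = 1 := Subtype.ext (congrArg (fun p : P => p.1.1) h)
    have h2 := orderOf_tEl
    rw [this, orderOf_one] at h2
    omega
  have hker2 : 2 ≤ Nat.card π2.ker := by
    have : Nontrivial π2.ker := ⟨⟨⟨p0, rfl⟩, 1, fun h => hp0 (congrArg Subtype.val h)⟩⟩
    exact Finite.one_lt_card
  have hcard := (Nat.card_le_card_of_injective π1 hinj).trans hpos
  have hker : Nat.card π2.ker = 2 := by omega
  have hbij : Function.Bijective π1 := (Nat.bijective_iff_injective_and_card π1).2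
    ⟨hinj, le_antisymm (Nat.card_le_card_of_injective π1 hinj) (by omega)⟩
  let e1 : ↥(Subgroup.centralizer ({tEl} : Set mclGroup)) ≃* tCentralizer :=
    { toFun := fun x => ⟨x.1.1, x.1.2, Subgroup.mem_centralizer_singleton_iff.2
        (congrArg Subtype.val (Subgroup.mem_centralizer_singleton_iff.1 x.2))⟩
      invFun := fun x => ⟨⟨x.1, x.2.1⟩, Subgroup.mem_centralizer_singleton_iff.2
        (Subtype.ext (Subgroup.mem_centralizer_singleton_iff.1 x.2.2))⟩
      left_inv := fun _ => rfl
      right_inv := fun _ => rfl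
      map_mul' := fun _ _ => rfl }
  let e := e1.trans (MulEquiv.ofBijective π1 hbij).symm
  let φ := (π2.codRestrict _ heven).comp e.toMonoidHom
  have hmem : ∀ x, x ∈ φ.ker ↔ e x ∈ π2.ker := fun x => by
    rw [MonoidHom.mem_ker, MonoidHom.mem_ker, Subtype.ext_iff]; rfl
  refine ⟨φ, fun σ => ?_, ?_, fun x hx => ?_⟩
  · obtain ⟨p, hp⟩ := (hsurj.ge σ.2 : σ.1 ∈ π2.range)
    exact ⟨e.symm p, Subtype.ext (by show π2 (e (e.symm p)) = σ.1; rw [e.apply_symm_apply, hp])⟩
  · rw [← hker]
    exact Nat.card_congr (e.toEquiv.subtypeEquiv hmem)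
  · have he : e x = p0 := hbij.1 (((MulEquiv.ofBijective π1 hbij).apply_symm_apply (e1 x)).trans
      (Subtype.ext (show x.1.1 = (tEl : Co0) from congrArg Subtype.val hx)))
    rw [hmem, he]
    rfl

/-- The involutions of a group isomorphic to the McLaughlin group. -/
theorem mcl_involutions {G : Type*} [Group G] (f : G ≃* mclGroup) :
    (∀ x y : G, orderOf x = 2 → orderOf y = 2 → IsConj x y) ∧
      ∃ t : G, orderOf t = 2 ∧ Cfsg.IsNonsplitDoubleCover ↥(Subgroup.centralizer ({t} : Set G))
        ↥(alternatingGroup (Fin 8)) := by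
  have hc : ∀ {x : G}, orderOf x = 2 → IsConj (f.symm tEl) x := fun {x} h => by
    have := (f.symm : mclGroup →* G).map_isConj (isConj_tEl (g := f x) (by rwa [f.orderOf_eq]))
    simpa using this
  refine ⟨fun x y hx hy => (hc hx).symm.trans (hc hy), f.symm tEl,
    by rw [f.symm.orderOf_eq, orderOf_tEl], ?_⟩
  obtain ⟨φ, hφ, hker, ht⟩ := exists_hom_tCentralizer
  let i : ↥(Subgroup.centralizer ({f.symm tEl} : Set G)) ≃*
      ↥(Subgroup.centralizer ({tEl} : Set mclGroup)) :=
    { toFun := fun x => ⟨f x.1, Subgroup.mem_centralizer_singleton_iff.2 (by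
        have := congrArg f (Subgroup.mem_centralizer_singleton_iff.1 x.2)
        rwa [map_mul, map_mul, f.apply_symm_apply] at this)⟩
      invFun := fun x => ⟨f.symm x.1, Subgroup.mem_centralizer_singleton_iff.2 (by
        rw [← map_mul, ← map_mul, Subgroup.mem_centralizer_singleton_iff.1 x.2])⟩
      left_inv := fun x => Subtype.ext (f.symm_apply_apply _)
      right_inv := fun x => Subtype.ext (f.apply_symm_apply _)
      map_mul' := fun x y => Subtype.ext (map_mul f x.1 y.1) }
  let ψ := φ.comp i.toMonoidHom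
  have hψ : Nat.card ψ.ker = 2 := by
    rw [← hker]
    exact Nat.card_congr (i.toEquiv.subtypeEquiv fun _ => Iff.rfl)
  let tc : ↥(Subgroup.centralizer ({f.symm tEl} : Set G)) :=
    ⟨f.symm tEl, Subgroup.mem_centralizer_singleton_iff.2 rfl⟩
  have htk : tc ∈ ψ.ker := ht (i tc) (f.apply_symm_apply _)
  have htc1 : tc ≠ 1 := fun h => by
    have h2 := orderOf_tEl
    rw [← f.symm.orderOf_eq, show f.symm tEl = 1 from congrArg Subtype.val h, orderOf_one] at h2
    omega
  let xc : ↥(Subgroup.centralizer ({f.symm tEl} : Set G)) :=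
    ⟨f.symm xEl, Subgroup.mem_centralizer_singleton_iff.2 (by
      rw [← map_mul, ← map_mul, ← xEl_sq, mul_assoc])⟩
  have hxx : xc * xc = tc := Subtype.ext (by
    show f.symm xEl * f.symm xEl = f.symm tEl
    rw [← map_mul, xEl_sq])
  refine isNonsplitDoubleCover_of_hom ψ (hφ.comp i.surjective)
    (alternatingGroup.center_eq_bot (by simp)) hψ ?_ (x := xc) (hxx ▸ htk) (hxx ▸ htc1)
  intro z hz
  obtain ⟨u, -, hu⟩ := (Nat.card_eq_two_iff' (1 : ψ.ker)).1 hψ
  have hz' : z = 1 ∨ z = tc := (eq_or_ne z 1).imp id fun h => congrArg Subtype.val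
    ((hu ⟨z, hz⟩ fun e => h (congrArg Subtype.val e)).trans
      (hu ⟨tc, htk⟩ fun e => htc1 (congrArg Subtype.val e)).symm)
  rcases hz' with rfl | rfl
  · exact one_mem _
  · exact Subgroup.mem_center_iff.2 fun g =>
      Subtype.ext (Subgroup.mem_centralizer_singleton_iff.1 g.2)

end Cfsg.Agent.Leech.McLInvol
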