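import Cfsg.Agent.Lib.Leech.MatEl

/-!
# Data: the centraliser of an involution in the McLaughlin group
-/

set_option autoImplicit false

namespace Cfsg.Agent.Leech.McLInvol

/-- The involution. -/
def invCode : ℕ := 965128854020860192151391391390468128

/-- An element of order four with this square. -/
def fourCode : ℕ := 966241487279953075721050169225055264

/-- Elements of the centraliser in `M24` sending the fixed points to `∞`. -/
def toNone : List ℕ := [142390844829042332488280392903198743, 100772730026931248598237508046112483, 146212453741400343283755904292380097, 134158377803334570157849897392112704, 587597037745204998820943328815778880, 602600711953384776852305109484406944, 720010940336718148064555317766227969, 984818244535754528103549039458486304]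

/-- Elements fixing `∞` and sending the other fixed points to `0`. -/
def toZero : List ℕ := [984818244535754528103549039458486304, 975716143082294306390920575114655745, 984594781509412249782923509071184322, 983545007758903985198415618434417699, 984371778862192860974737017927731237, 982224375927455642460544762919356462, 979163321393373081508112654770738721]

/-- The matrices of the generators, times eight. -/
def mats : List (List (List ℤ)) :=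
  [[[ep5, em1, ep1, em3, ep1, em1, ep1, em1, em1, em1, em1, em1, em1, ep1, em1, em1, em1, ep1, em1, ep1, em1, em1, em1, ep3],
    [ep1, em1, ep1, ep1, ep1, em1, ep1, em1, ep3, em1, em1, em1, em1, ep1, ep3, ep3, em1, ep1, ep3, ep1, ep3, em1, em1, em1],
    [ep1, em1, ep1, ep1, ep1, em1, ep1, em1, em1, ep3, ep3, ep3, ep3, ep1, ep3, em1, em1, ep1, em1, ep1, em1, em1, em1, em1],
    [em1, em3, ep3, em1, em1, em3, em1, ep1, ep1, ep1, ep1, ep1, ep1, em1, em3, ep1, ep1, ep3, ep1, em1, ep1, ep1, ep1, ep1],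
    [ep1, ep3, ep1, ep1, ep1, em1, ep1, ep3, em1, ep3, em1, em1, em1, ep1, em1, em1, ep3, ep1, ep3, ep1, em1, em1, em1, em1],
    [em1, ep1, em1, em1, ep3, ep1, ep3, em3, ep1, ep1, ep1, ep1, ep1, em1, em3, ep1, ep1, em1, ep1, em1, ep1, ep1, em3, ep1],
    [ep1, ep3, ep1, ep1, ep1, em1, ep1, em1, em1, em1, em1, em1, ep3, ep1, em1, ep3, em1, ep1, em1, ep1, em1, ep3, ep3, em1],
    [em1, em3, em1, em1, ep3, ep1, em1, ep1, ep1, ep1, ep1, em3, ep1, em1, ep1, ep1, ep1, em1, ep1, ep3, em3, ep1, ep1, ep1],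
    [ep1, em1, ep1, ep1, ep1, ep3, ep1, em1, ep3, em1, em1, ep3, em1, ep1, em1, em1, ep3, ep1, em1, ep1, em1, em1, ep3, em1],
    [em1, ep1, em1, em1, em1, ep1, em1, em3, em3, ep1, ep1, ep1, em3, em1, ep1, ep1, ep1, ep3, ep1, ep3, ep1, ep1, ep1, ep1],
    [em1, ep1, em1, em1, em1, ep1, ep3, ep1, ep1, ep1, ep1, em3, ep1, em1, ep1, ep1, ep1, ep3, em3, em1, ep1, em3, ep1, ep1],
    [em1, ep1, em1, em1, ep3, ep1, em1, ep1, ep1, ep1, em3, ep1, ep1, em1, ep1, em3, em3, ep3, ep1, em1, ep1, ep1, ep1, ep1],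
    [em1, ep1, em1, em1, em1, ep1, em1, ep1, ep1, em3, ep1, ep1, ep1, ep3, ep1, ep1, ep1, ep3, ep1, em1, em3, ep1, em3, ep1],
    [em1, ep1, ep3, em1, em1, ep1, ep3, ep1, ep1, ep1, ep1, ep1, em3, em1, ep1, ep1, em3, em1, ep1, em1, em3, ep1, ep1, ep1],
    [em3, em1, ep1, ep5, ep1, em1, ep1, em1, em1, em1, em1, em1, em1, ep1, em1, em1, em1, ep1, em1, ep1, em1, em1, em1, ep3],
    [em1, ep1, em1, em1, em1, em3, ep3, ep1, ep1, em3, ep1, ep1, ep1, em1, ep1, em3, ep1, em1, ep1, ep3, ep1, ep1, ep1, ep1],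
    [em1, ep1, ep3, em1, em1, ep1, em1, em3, ep1, ep1, ep1, em3, ep1, ep3, ep1, em3, ep1, em1, ep1, em1, ep1, ep1, ep1, ep1],
    [em1, ep1, em1, em1, em1, ep1, em1, ep1, ep1, ep1, ep1, ep1, ep1, ep3, em3, ep1, em3, em1, ep1, ep3, ep1, em3, ep1, ep1],
    [em1, ep1, em1, em1, ep3, em3, em1, ep1, ep1, ep1, ep1, ep1, em3, ep3, ep1, ep1, ep1, em1, em3, em1, ep1, ep1, ep1, ep1],
    [em1, ep1, ep3, em1, ep3, ep1, em1, ep1, em3, em3, ep1, ep1, ep1, em1, ep1, ep1, ep1, em1, ep1, em1, ep1, em3, ep1, ep1],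
    [ep1, em1, ep1, ep1, ep1, ep3, ep1, ep3, em1, em1, ep3, em1, em1, ep1, em1, em1, em1, ep1, em1, ep1, ep3, ep3, em1, em1],
    [em1, ep1, ep3, em1, em1, ep1, em1, ep1, ep1, ep1, em3, ep1, ep1, em1, ep1, ep1, ep1, em1, em3, ep3, ep1, ep1, em3, ep1],
    [em1, em3, em1, em1, em1, ep1, ep3, ep1, em3, ep1, em3, ep1, ep1, ep3, ep1, ep1, ep1, em1, ep1, em1, ep1, ep1, ep1, ep1],
    [ep3, ep1, em1, ep3, em1, ep1, em1, ep1, ep1, ep1, ep1, ep1, ep1, em1, ep1, ep1, ep1, em1, ep1, em1, ep1, ep1, ep1, ep5]],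
   [[ep8, ep0, ep0, ep0, ep0, ep0, ep0, ep0, ep0, ep0, ep0, ep0, ep0, ep0, ep0, ep0, ep0, ep0, ep0, ep0, ep0, ep0, ep0, ep0],
    [ep0, ep0, ep8, ep0, ep0, ep0, ep0, ep0, ep0, ep0, ep0, ep0, ep0, ep0, ep0, ep0, ep0, ep0, ep0, ep0, ep0, ep0, ep0, ep0],
    [ep0, ep0, ep0, ep8, ep0, ep0, ep0, ep0, ep0, ep0, ep0, ep0, ep0, ep0, ep0, ep0, ep0, ep0, ep0, ep0, ep0, ep0, ep0, ep0],
    [ep0, ep8, ep0, ep0, ep0, ep0, ep0, ep0, ep0, ep0, ep0, ep0, ep0, ep0, ep0, ep0, ep0, ep0, ep0, ep0, ep0, ep0, ep0, ep0],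
    [ep0, ep0, ep0, ep0, ep0, ep0, ep0, ep0, ep0, ep0, ep0, ep0, ep8, ep0, ep0, ep0, ep0, ep0, ep0, ep0, ep0, ep0, ep0, ep0],
    [ep0, ep0, ep0, ep0, ep0, ep0, ep0, ep0, ep0, ep0, ep0, ep0, ep0, ep0, ep8, ep0, ep0, ep0, ep0, ep0, ep0, ep0, ep0, ep0],
    [ep0, ep0, ep0, ep0, ep0, ep0, ep0, ep0, ep0, ep8, ep0, ep0, ep0, ep0, ep0, ep0, ep0, ep0, ep0, ep0, ep0, ep0, ep0, ep0],
    [ep0, ep0, ep0, ep0, ep8, ep0, ep0, ep0, ep0, ep0, ep0, ep0, ep0, ep0, ep0, ep0, ep0, ep0, ep0, ep0, ep0, ep0, ep0, ep0],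
    [ep0, ep0, ep0, ep0, ep0, ep0, ep0, ep0, ep0, ep0, ep0, ep0, ep0, ep0, ep0, ep8, ep0, ep0, ep0, ep0, ep0, ep0, ep0, ep0],
    [ep0, ep0, ep0, ep0, ep0, ep0, ep0, ep0, ep0, ep0, ep0, ep0, ep0, ep0, ep0, ep0, ep0, ep0, ep0, ep0, ep0, ep0, ep8, ep0],
    [ep0, ep0, ep0, ep0, ep0, ep0, ep0, ep0, ep0, ep0, ep8, ep0, ep0, ep0, ep0, ep0, ep0, ep0, ep0, ep0, ep0, ep0, ep0, ep0],
    [ep0, ep0, ep0, ep0, ep0, ep0, ep0, ep0, ep0, ep0, ep0, ep8, ep0, ep0, ep0, ep0, ep0, ep0, ep0, ep0, ep0, ep0, ep0, ep0],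
    [ep0, ep0, ep0, ep0, ep0, ep0, ep0, ep8, ep0, ep0, ep0, ep0, ep0, ep0, ep0, ep0, ep0, ep0, ep0, ep0, ep0, ep0, ep0, ep0],
    [ep0, ep0, ep0, ep0, ep0, ep0, ep0, ep0, ep0, ep0, ep0, ep0, ep0, ep0, ep0, ep0, ep0, ep0, ep0, ep0, ep8, ep0, ep0, ep0],
    [ep0, ep0, ep0, ep0, ep0, ep0, ep0, ep0, ep0, ep0, ep0, ep0, ep0, ep0, ep0, ep0, ep0, ep8, ep0, ep0, ep0, ep0, ep0, ep0],
    [ep0, ep0, ep0, ep0, ep0, ep0, ep0, ep0, ep0, ep0, ep0, ep0, ep0, ep0, ep0, ep0, ep0, ep0, ep0, ep8, ep0, ep0, ep0, ep0],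
    [ep0, ep0, ep0, ep0, ep0, ep0, ep0, ep0, ep0, ep0, ep0, ep0, ep0, ep0, ep0, ep0, ep8, ep0, ep0, ep0, ep0, ep0, ep0, ep0],
    [ep0, ep0, ep0, ep0, ep0, ep8, ep0, ep0, ep0, ep0, ep0, ep0, ep0, ep0, ep0, ep0, ep0, ep0, ep0, ep0, ep0, ep0, ep0, ep0],
    [ep0, ep0, ep0, ep0, ep0, ep0, ep0, ep0, ep0, ep0, ep0, ep0, ep0, ep8, ep0, ep0, ep0, ep0, ep0, ep0, ep0, ep0, ep0, ep0],
    [ep0, ep0, ep0, ep0, ep0, ep0, ep0, ep0, ep8, ep0, ep0, ep0, ep0, ep0, ep0, ep0, ep0, ep0, ep0, ep0, ep0, ep0, ep0, ep0],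
    [ep0, ep0, ep0, ep0, ep0, ep0, ep0, ep0, ep0, ep0, ep0, ep0, ep0, ep0, ep0, ep0, ep0, ep0, ep8, ep0, ep0, ep0, ep0, ep0],
    [ep0, ep0, ep0, ep0, ep0, ep0, ep0, ep0, ep0, ep0, ep0, ep0, ep0, ep0, ep0, ep0, ep0, ep0, ep0, ep0, ep0, ep8, ep0, ep0],
    [ep0, ep0, ep0, ep0, ep0, ep0, ep8, ep0, ep0, ep0, ep0, ep0, ep0, ep0, ep0, ep0, ep0, ep0, ep0, ep0, ep0, ep0, ep0, ep0],
    [ep0, ep0, ep0, ep0, ep0, ep0, ep0, ep0, ep0, ep0, ep0, ep0, ep0, ep0, ep0, ep0, ep0, ep0, ep0, ep0, ep0, ep0, ep0, ep8]],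
   [[ep8, ep0, ep0, ep0, ep0, ep0, ep0, ep0, ep0, ep0, ep0, ep0, ep0, ep0, ep0, ep0, ep0, ep0, ep0, ep0, ep0, ep0, ep0, ep0],
    [ep0, ep0, ep0, ep0, ep0, ep0, ep0, ep0, ep0, ep0, ep0, ep0, ep0, ep0, ep0, ep0, ep0, ep8, ep0, ep0, ep0, ep0, ep0, ep0],
    [ep0, ep0, ep0, ep8, ep0, ep0, ep0, ep0, ep0, ep0, ep0, ep0, ep0, ep0, ep0, ep0, ep0, ep0, ep0, ep0, ep0, ep0, ep0, ep0],
    [ep0, ep0, ep0, ep0, ep0, ep8, ep0, ep0, ep0, ep0, ep0, ep0, ep0, ep0, ep0, ep0, ep0, ep0, ep0, ep0, ep0, ep0, ep0, ep0],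
    [ep0, ep0, ep0, ep0, ep0, ep0, ep0, ep0, ep0, ep0, ep0, ep0, ep0, ep0, ep0, ep0, ep0, ep0, ep0, ep0, ep8, ep0, ep0, ep0],
    [ep0, ep0, ep0, ep0, ep0, ep0, ep0, ep0, ep0, ep0, ep0, ep0, ep0, ep0, ep8, ep0, ep0, ep0, ep0, ep0, ep0, ep0, ep0, ep0],
    [ep0, ep0, ep0, ep0, ep0, ep0, ep0, ep0, ep8, ep0, ep0, ep0, ep0, ep0, ep0, ep0, ep0, ep0, ep0, ep0, ep0, ep0, ep0, ep0],
    [ep0, ep0, ep0, ep0, ep0, ep0, ep0, ep0, ep0, ep0, ep0, ep0, ep0, ep0, ep0, ep0, ep0, ep0, ep0, ep8, ep0, ep0, ep0, ep0],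
    [ep0, ep0, ep0, ep0, ep0, ep0, ep0, ep0, ep0, ep0, ep8, ep0, ep0, ep0, ep0, ep0, ep0, ep0, ep0, ep0, ep0, ep0, ep0, ep0],
    [ep0, ep0, ep0, ep0, ep0, ep0, ep0, ep0, ep0, ep0, ep0, ep0, ep0, ep0, ep0, ep0, ep0, ep0, ep0, ep0, ep0, ep8, ep0, ep0],
    [ep0, ep0, ep0, ep0, ep0, ep0, ep0, ep0, ep0, ep0, ep0, ep0, ep0, ep0, ep0, ep0, ep0, ep0, ep8, ep0, ep0, ep0, ep0, ep0],
    [ep0, ep0, ep0, ep0, ep0, ep0, ep0, ep0, ep0, ep0, ep0, ep0, ep0, ep0, ep0, ep8, ep0, ep0, ep0, ep0, ep0, ep0, ep0, ep0],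
    [ep0, ep0, ep0, ep0, ep0, ep0, ep0, ep0, ep0, ep0, ep0, ep0, ep0, ep0, ep0, ep0, ep8, ep0, ep0, ep0, ep0, ep0, ep0, ep0],
    [ep0, ep0, ep0, ep0, ep0, ep0, ep0, ep0, ep0, ep8, ep0, ep0, ep0, ep0, ep0, ep0, ep0, ep0, ep0, ep0, ep0, ep0, ep0, ep0],
    [ep0, ep0, ep8, ep0, ep0, ep0, ep0, ep0, ep0, ep0, ep0, ep0, ep0, ep0, ep0, ep0, ep0, ep0, ep0, ep0, ep0, ep0, ep0, ep0],
    [ep0, ep0, ep0, ep0, ep0, ep0, ep8, ep0, ep0, ep0, ep0, ep0, ep0, ep0, ep0, ep0, ep0, ep0, ep0, ep0, ep0, ep0, ep0, ep0],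
    [ep0, ep0, ep0, ep0, ep0, ep0, ep0, ep0, ep0, ep0, ep0, ep0, ep0, ep0, ep0, ep0, ep0, ep0, ep0, ep0, ep0, ep0, ep8, ep0],
    [ep0, ep8, ep0, ep0, ep0, ep0, ep0, ep0, ep0, ep0, ep0, ep0, ep0, ep0, ep0, ep0, ep0, ep0, ep0, ep0, ep0, ep0, ep0, ep0],
    [ep0, ep0, ep0, ep0, ep8, ep0, ep0, ep0, ep0, ep0, ep0, ep0, ep0, ep0, ep0, ep0, ep0, ep0, ep0, ep0, ep0, ep0, ep0, ep0],
    [ep0, ep0, ep0, ep0, ep0, ep0, ep0, ep0, ep0, ep0, ep0, ep0, ep8, ep0, ep0, ep0, ep0, ep0, ep0, ep0, ep0, ep0, ep0, ep0],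
    [ep0, ep0, ep0, ep0, ep0, ep0, ep0, ep0, ep0, ep0, ep0, ep8, ep0, ep0, ep0, ep0, ep0, ep0, ep0, ep0, ep0, ep0, ep0, ep0],
    [ep0, ep0, ep0, ep0, ep0, ep0, ep0, ep8, ep0, ep0, ep0, ep0, ep0, ep0, ep0, ep0, ep0, ep0, ep0, ep0, ep0, ep0, ep0, ep0],
    [ep0, ep0, ep0, ep0, ep0, ep0, ep0, ep0, ep0, ep0, ep0, ep0, ep0, ep8, ep0, ep0, ep0, ep0, ep0, ep0, ep0, ep0, ep0, ep0],
    [ep0, ep0, ep0, ep0, ep0, ep0, ep0, ep0, ep0, ep0, ep0, ep0, ep0, ep0, ep0, ep0, ep0, ep0, ep0, ep0, ep0, ep0, ep0, ep8]]]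

/-- The transposed matrices. -/
def matsT : List (List (List ℤ)) :=
  [[[ep5, ep1, ep1, em1, ep1, em1, ep1, em1, ep1, em1, em1, em1, em1, em1, em3, em1, em1, em1, em1, em1, ep1, em1, em1, ep3],
    [em1, em1, em1, em3, ep3, ep1, ep3, em3, em1, ep1, ep1, ep1, ep1, ep1, em1, ep1, ep1, ep1, ep1, ep1, em1, ep1, em3, ep1],
    [ep1, ep1, ep1, ep3, ep1, em1, ep1, em1, ep1, em1, em1, em1, em1, ep3, ep1, em1, ep3, em1, em1, ep3, ep1, ep3, em1, em1],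
    [em3, ep1, ep1, em1, ep1, em1, ep1, em1, ep1, em1, em1, em1, em1, em1, ep5, em1, em1, em1, em1, em1, ep1, em1, em1, ep3],
    [ep1, ep1, ep1, em1, ep1, ep3, ep1, ep3, ep1, em1, em1, ep3, em1, em1, ep1, em1, em1, em1, ep3, ep3, ep1, em1, em1, em1],
    [em1, em1, em1, em3, em1, ep1, em1, ep1, ep3, ep1, ep1, ep1, ep1, ep1, em1, em3, ep1, ep1, em3, ep1, ep3, ep1, ep1, ep1],
    [ep1, ep1, ep1, em1, ep1, ep3, ep1, em1, ep1, em1, ep3, em1, em1, ep3, ep1, ep3, em1, em1, em1, em1, ep1, em1, ep3, em1],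
    [em1, em1, em1, ep1, ep3, em3, em1, ep1, em1, em3, ep1, ep1, ep1, ep1, em1, ep1, em3, ep1, ep1, ep1, ep3, ep1, ep1, ep1],
    [em1, ep3, em1, ep1, em1, ep1, em1, ep1, ep3, em3, ep1, ep1, ep1, ep1, em1, ep1, ep1, ep1, ep1, em3, em1, ep1, em3, ep1],
    [em1, em1, ep3, ep1, ep3, ep1, em1, ep1, em1, ep1, ep1, ep1, em3, ep1, em1, em3, ep1, ep1, ep1, em3, em1, ep1, ep1, ep1],
    [em1, em1, ep3, ep1, em1, ep1, em1, ep1, em1, ep1, ep1, em3, ep1, ep1, em1, ep1, ep1, ep1, ep1, ep1, ep3, em3, em3, ep1],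
    [em1, em1, ep3, ep1, em1, ep1, em1, em3, ep3, ep1, em3, ep1, ep1, ep1, em1, ep1, em3, ep1, ep1, ep1, em1, ep1, ep1, ep1],
    [em1, em1, ep3, ep1, em1, ep1, ep3, ep1, em1, em3, ep1, ep1, ep1, em3, em1, ep1, ep1, ep1, em3, ep1, em1, ep1, ep1, ep1],
    [ep1, ep1, ep1, em1, ep1, em1, ep1, em1, ep1, em1, em1, em1, ep3, em1, ep1, em1, ep3, ep3, ep3, em1, ep1, em1, ep3, em1],
    [em1, ep3, ep3, em3, em1, em3, em1, ep1, em1, ep1, ep1, ep1, ep1, ep1, em1, ep1, ep1, em3, ep1, ep1, em1, ep1, ep1, ep1],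
    [em1, ep3, em1, ep1, em1, ep1, ep3, ep1, em1, ep1, ep1, em3, ep1, ep1, em1, em3, em3, ep1, ep1, ep1, em1, ep1, ep1, ep1],
    [em1, em1, em1, ep1, ep3, ep1, em1, ep1, ep3, ep1, ep1, em3, ep1, em3, em1, ep1, ep1, em3, ep1, ep1, em1, ep1, ep1, ep1],
    [ep1, ep1, ep1, ep3, ep1, em1, ep1, em1, ep1, ep3, ep3, ep3, ep3, em1, ep1, em1, em1, em1, em1, em1, ep1, em1, em1, em1],
    [em1, ep3, em1, ep1, ep3, ep1, em1, ep1, em1, ep1, em3, ep1, ep1, ep1, em1, ep1, ep1, ep1, em3, ep1, em1, em3, ep1, ep1],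
    [ep1, ep1, ep1, em1, ep1, em1, ep1, ep3, ep1, ep3, em1, em1, em1, em1, ep1, ep3, em1, ep3, em1, em1, ep1, ep3, em1, em1],
    [em1, ep3, em1, ep1, em1, ep1, em1, em3, em1, ep1, ep1, ep1, em3, em3, em1, ep1, ep1, ep1, ep1, ep1, ep3, ep1, ep1, ep1],
    [em1, em1, em1, ep1, em1, ep1, ep3, ep1, em1, ep1, em3, ep1, ep1, ep1, em1, ep1, ep1, em3, ep1, em3, ep3, ep1, ep1, ep1],
    [em1, em1, em1, ep1, em1, em3, ep3, ep1, ep3, ep1, ep1, ep1, em3, ep1, em1, ep1, ep1, ep1, ep1, ep1, em1, em3, ep1, ep1],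
    [ep3, em1, em1, ep1, em1, ep1, em1, ep1, em1, ep1, ep1, ep1, ep1, ep1, ep3, ep1, ep1, ep1, ep1, ep1, em1, ep1, ep1, ep5]],
   [[ep8, ep0, ep0, ep0, ep0, ep0, ep0, ep0, ep0, ep0, ep0, ep0, ep0, ep0, ep0, ep0, ep0, ep0, ep0, ep0, ep0, ep0, ep0, ep0],
    [ep0, ep0, ep0, ep8, ep0, ep0, ep0, ep0, ep0, ep0, ep0, ep0, ep0, ep0, ep0, ep0, ep0, ep0, ep0, ep0, ep0, ep0, ep0, ep0],
    [ep0, ep8, ep0, ep0, ep0, ep0, ep0, ep0, ep0, ep0, ep0, ep0, ep0, ep0, ep0, ep0, ep0, ep0, ep0, ep0, ep0, ep0, ep0, ep0],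
    [ep0, ep0, ep8, ep0, ep0, ep0, ep0, ep0, ep0, ep0, ep0, ep0, ep0, ep0, ep0, ep0, ep0, ep0, ep0, ep0, ep0, ep0, ep0, ep0],
    [ep0, ep0, ep0, ep0, ep0, ep0, ep0, ep8, ep0, ep0, ep0, ep0, ep0, ep0, ep0, ep0, ep0, ep0, ep0, ep0, ep0, ep0, ep0, ep0],
    [ep0, ep0, ep0, ep0, ep0, ep0, ep0, ep0, ep0, ep0, ep0, ep0, ep0, ep0, ep0, ep0, ep0, ep8, ep0, ep0, ep0, ep0, ep0, ep0],
    [ep0, ep0, ep0, ep0, ep0, ep0, ep0, ep0, ep0, ep0, ep0, ep0, ep0, ep0, ep0, ep0, ep0, ep0, ep0, ep0, ep0, ep0, ep8, ep0],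
    [ep0, ep0, ep0, ep0, ep0, ep0, ep0, ep0, ep0, ep0, ep0, ep0, ep8, ep0, ep0, ep0, ep0, ep0, ep0, ep0, ep0, ep0, ep0, ep0],
    [ep0, ep0, ep0, ep0, ep0, ep0, ep0, ep0, ep0, ep0, ep0, ep0, ep0, ep0, ep0, ep0, ep0, ep0, ep0, ep8, ep0, ep0, ep0, ep0],
    [ep0, ep0, ep0, ep0, ep0, ep0, ep8, ep0, ep0, ep0, ep0, ep0, ep0, ep0, ep0, ep0, ep0, ep0, ep0, ep0, ep0, ep0, ep0, ep0],
    [ep0, ep0, ep0, ep0, ep0, ep0, ep0, ep0, ep0, ep0, ep8, ep0, ep0, ep0, ep0, ep0, ep0, ep0, ep0, ep0, ep0, ep0, ep0, ep0],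
    [ep0, ep0, ep0, ep0, ep0, ep0, ep0, ep0, ep0, ep0, ep0, ep8, ep0, ep0, ep0, ep0, ep0, ep0, ep0, ep0, ep0, ep0, ep0, ep0],
    [ep0, ep0, ep0, ep0, ep8, ep0, ep0, ep0, ep0, ep0, ep0, ep0, ep0, ep0, ep0, ep0, ep0, ep0, ep0, ep0, ep0, ep0, ep0, ep0],
    [ep0, ep0, ep0, ep0, ep0, ep0, ep0, ep0, ep0, ep0, ep0, ep0, ep0, ep0, ep0, ep0, ep0, ep0, ep8, ep0, ep0, ep0, ep0, ep0],
    [ep0, ep0, ep0, ep0, ep0, ep8, ep0, ep0, ep0, ep0, ep0, ep0, ep0, ep0, ep0, ep0, ep0, ep0, ep0, ep0, ep0, ep0, ep0, ep0],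
    [ep0, ep0, ep0, ep0, ep0, ep0, ep0, ep0, ep8, ep0, ep0, ep0, ep0, ep0, ep0, ep0, ep0, ep0, ep0, ep0, ep0, ep0, ep0, ep0],
    [ep0, ep0, ep0, ep0, ep0, ep0, ep0, ep0, ep0, ep0, ep0, ep0, ep0, ep0, ep0, ep0, ep8, ep0, ep0, ep0, ep0, ep0, ep0, ep0],
    [ep0, ep0, ep0, ep0, ep0, ep0, ep0, ep0, ep0, ep0, ep0, ep0, ep0, ep0, ep8, ep0, ep0, ep0, ep0, ep0, ep0, ep0, ep0, ep0],
    [ep0, ep0, ep0, ep0, ep0, ep0, ep0, ep0, ep0, ep0, ep0, ep0, ep0, ep0, ep0, ep0, ep0, ep0, ep0, ep0, ep8, ep0, ep0, ep0],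
    [ep0, ep0, ep0, ep0, ep0, ep0, ep0, ep0, ep0, ep0, ep0, ep0, ep0, ep0, ep0, ep8, ep0, ep0, ep0, ep0, ep0, ep0, ep0, ep0],
    [ep0, ep0, ep0, ep0, ep0, ep0, ep0, ep0, ep0, ep0, ep0, ep0, ep0, ep8, ep0, ep0, ep0, ep0, ep0, ep0, ep0, ep0, ep0, ep0],
    [ep0, ep0, ep0, ep0, ep0, ep0, ep0, ep0, ep0, ep0, ep0, ep0, ep0, ep0, ep0, ep0, ep0, ep0, ep0, ep0, ep0, ep8, ep0, ep0],
    [ep0, ep0, ep0, ep0, ep0, ep0, ep0, ep0, ep0, ep8, ep0, ep0, ep0, ep0, ep0, ep0, ep0, ep0, ep0, ep0, ep0, ep0, ep0, ep0],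
    [ep0, ep0, ep0, ep0, ep0, ep0, ep0, ep0, ep0, ep0, ep0, ep0, ep0, ep0, ep0, ep0, ep0, ep0, ep0, ep0, ep0, ep0, ep0, ep8]],
   [[ep8, ep0, ep0, ep0, ep0, ep0, ep0, ep0, ep0, ep0, ep0, ep0, ep0, ep0, ep0, ep0, ep0, ep0, ep0, ep0, ep0, ep0, ep0, ep0],
    [ep0, ep0, ep0, ep0, ep0, ep0, ep0, ep0, ep0, ep0, ep0, ep0, ep0, ep0, ep0, ep0, ep0, ep8, ep0, ep0, ep0, ep0, ep0, ep0],
    [ep0, ep0, ep0, ep0, ep0, ep0, ep0, ep0, ep0, ep0, ep0, ep0, ep0, ep0, ep8, ep0, ep0, ep0, ep0, ep0, ep0, ep0, ep0, ep0],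
    [ep0, ep0, ep8, ep0, ep0, ep0, ep0, ep0, ep0, ep0, ep0, ep0, ep0, ep0, ep0, ep0, ep0, ep0, ep0, ep0, ep0, ep0, ep0, ep0],
    [ep0, ep0, ep0, ep0, ep0, ep0, ep0, ep0, ep0, ep0, ep0, ep0, ep0, ep0, ep0, ep0, ep0, ep0, ep8, ep0, ep0, ep0, ep0, ep0],
    [ep0, ep0, ep0, ep8, ep0, ep0, ep0, ep0, ep0, ep0, ep0, ep0, ep0, ep0, ep0, ep0, ep0, ep0, ep0, ep0, ep0, ep0, ep0, ep0],
    [ep0, ep0, ep0, ep0, ep0, ep0, ep0, ep0, ep0, ep0, ep0, ep0, ep0, ep0, ep0, ep8, ep0, ep0, ep0, ep0, ep0, ep0, ep0, ep0],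
    [ep0, ep0, ep0, ep0, ep0, ep0, ep0, ep0, ep0, ep0, ep0, ep0, ep0, ep0, ep0, ep0, ep0, ep0, ep0, ep0, ep0, ep8, ep0, ep0],
    [ep0, ep0, ep0, ep0, ep0, ep0, ep8, ep0, ep0, ep0, ep0, ep0, ep0, ep0, ep0, ep0, ep0, ep0, ep0, ep0, ep0, ep0, ep0, ep0],
    [ep0, ep0, ep0, ep0, ep0, ep0, ep0, ep0, ep0, ep0, ep0, ep0, ep0, ep8, ep0, ep0, ep0, ep0, ep0, ep0, ep0, ep0, ep0, ep0],
    [ep0, ep0, ep0, ep0, ep0, ep0, ep0, ep0, ep8, ep0, ep0, ep0, ep0, ep0, ep0, ep0, ep0, ep0, ep0, ep0, ep0, ep0, ep0, ep0],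
    [ep0, ep0, ep0, ep0, ep0, ep0, ep0, ep0, ep0, ep0, ep0, ep0, ep0, ep0, ep0, ep0, ep0, ep0, ep0, ep0, ep8, ep0, ep0, ep0],
    [ep0, ep0, ep0, ep0, ep0, ep0, ep0, ep0, ep0, ep0, ep0, ep0, ep0, ep0, ep0, ep0, ep0, ep0, ep0, ep8, ep0, ep0, ep0, ep0],
    [ep0, ep0, ep0, ep0, ep0, ep0, ep0, ep0, ep0, ep0, ep0, ep0, ep0, ep0, ep0, ep0, ep0, ep0, ep0, ep0, ep0, ep0, ep8, ep0],
    [ep0, ep0, ep0, ep0, ep0, ep8, ep0, ep0, ep0, ep0, ep0, ep0, ep0, ep0, ep0, ep0, ep0, ep0, ep0, ep0, ep0, ep0, ep0, ep0],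
    [ep0, ep0, ep0, ep0, ep0, ep0, ep0, ep0, ep0, ep0, ep0, ep8, ep0, ep0, ep0, ep0, ep0, ep0, ep0, ep0, ep0, ep0, ep0, ep0],
    [ep0, ep0, ep0, ep0, ep0, ep0, ep0, ep0, ep0, ep0, ep0, ep0, ep8, ep0, ep0, ep0, ep0, ep0, ep0, ep0, ep0, ep0, ep0, ep0],
    [ep0, ep8, ep0, ep0, ep0, ep0, ep0, ep0, ep0, ep0, ep0, ep0, ep0, ep0, ep0, ep0, ep0, ep0, ep0, ep0, ep0, ep0, ep0, ep0],
    [ep0, ep0, ep0, ep0, ep0, ep0, ep0, ep0, ep0, ep0, ep8, ep0, ep0, ep0, ep0, ep0, ep0, ep0, ep0, ep0, ep0, ep0, ep0, ep0],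
    [ep0, ep0, ep0, ep0, ep0, ep0, ep0, ep8, ep0, ep0, ep0, ep0, ep0, ep0, ep0, ep0, ep0, ep0, ep0, ep0, ep0, ep0, ep0, ep0],
    [ep0, ep0, ep0, ep0, ep8, ep0, ep0, ep0, ep0, ep0, ep0, ep0, ep0, ep0, ep0, ep0, ep0, ep0, ep0, ep0, ep0, ep0, ep0, ep0],
    [ep0, ep0, ep0, ep0, ep0, ep0, ep0, ep0, ep0, ep8, ep0, ep0, ep0, ep0, ep0, ep0, ep0, ep0, ep0, ep0, ep0, ep0, ep0, ep0],
    [ep0, ep0, ep0, ep0, ep0, ep0, ep0, ep0, ep0, ep0, ep0, ep0, ep0, ep0, ep0, ep0, ep8, ep0, ep0, ep0, ep0, ep0, ep0, ep0],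
    [ep0, ep0, ep0, ep0, ep0, ep0, ep0, ep0, ep0, ep0, ep0, ep0, ep0, ep0, ep0, ep0, ep0, ep0, ep0, ep0, ep0, ep0, ep0, ep8]]]

/-- The packed columns. -/
def cols : List (List ℤ) :=
  [[8931391404927943008689757300229540880696578184203300955806542844375757775761646178979681016034889432523071451132717305186316324692862959621,
    2977122897076213167212699135023027160082632593651457396730025111812557839521540997660005560554612491679209010270057132472781074740391444479,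
    -2977134253920449545077694684660748131126861334873000834205241965884806868342009398584460763132160297643956579188589811622180978902998974463,
    8931391404927943008689757300229540880696578184203300971347893982181590343117341433567832269174144144940187621147216583097550606334530945021,
    -2977134253931280286070354117696582141202583466626135177784108392052599683713130836158717358306454412071585024381005707421019282747308376063,
    2977134253931280296399363480545765598446063224390059567101044888959237575383784403538112988742364216155093708221116450532638106428956999679,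
    -2977122897076213167212699135023027160082632593643309252824679756773772868531389948720582094992749544730259198428169477002744645668190552063,
    2977134253931280296399363480555159768777150013361621949753210601326989410124596784840928611582606904334620348919547516358395939653319393279,
    2977122897076213167212689284521478061462829523891432360826573841877740223159874010580524522806718186447717162082272390113814156569377505279,
    2977134253931280286070354117705976311533678799529544956265927795809961249635999732466667407281707176047396266905619228563925937197369262079,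
    2977122897065382436549039214325433338299500360946956311723161499632692198242415892551320374865229173600021180427020302902718825402052116479,
    2977134253931280286070363968207525410153473325349574452434387430010095358801952930932291075563604487538415004486738850682486145481236807679,
    2977134253931280286070363968198131239822386536386160213687552251293706118578277381470557830214090468608310106961683220599322142467534356479,
    -2977122897076213167212699135013632980792549748080538948472769061335385930371753781102155640454481364674824587981793841300331671539300696063,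
    2977134253931280286070363968207525401194502900586501293844947887823142924523835780563959392689829065560736128065851932680058186875907604479,
    2977134253931280286070363968207525410153473325341426308529049485665021569308335179252602283437288164497337010754631025216316116861667246079,
    2977134253931280286070363968207525401194502900586501293844940477129431729547342005233258893842979233850421536545813869245478384907326586879,
    -2977134253931280286070363968207525410153481869297718136074717010089852642011311137638257375495494300315883261101298208102406128809949528063,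
    2977134253920449545077704535152903059415577615669611631361872878490657620953002197783935607352554565443231524205895131601043717400302714879,
    -2977134253920449545077704535162297220787693979861804567613923159981309455908422403430007811861696289914614255347707253316673026376795684863,
    2977134253931280296399363480555159768777158557309765633393532770713035511837434549803774274328070389405856861738263055817279042124675809279,
    2977134253931280296399353630053610661198376518838523755260319789205219359484799791901021783365648801933612240023171512791930057786869678079,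
    2977134253920449545077704535162297229746672948581169553749030226593092962889528367700608623042820444657677966769929298314622740939936890879,
    14885659912790503580830485236644591701003541922798737243497328002375430417138176972572947333753715083771994856861412813339745501473582088195],
   [8,
    9223372036854775808,
    8388608,
    8796093022208,
    11150372599265311570767859136324180752990208,
    17917957937422433684459538244547554224973163977877196279199912807710334969441287563047019946172856926208,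
    22713710134237715329666368996500141698551292521478689383796568724394977753543685103943470334805111423773828800195818060422956300894208,
    14134776518227074636666380005943348126619871175004951664972849610340958208,
    19701003098197239606139520050071806902539869635232723333974146702122860885748605305707133127442457820403313995153408,
    10633823966279326983230456482242756608,
    12855504354071922204335696738729300820177623950262342682411008,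
    13479973333575319897333507543509815336818572211270286240551805124608,
    9671406556917033397649408,
    18788340662190665823115844774314696219005460391266558965658327772257672200916867547709591987078149624255479808,
    10141204801825835211973625643008,
    11692013098647223345629478661730264157247460343808,
    17087896287367280659160173649356416916821636178853222159576332862577757806245124400183696695492608,
    15541351137805832567355695254588151253139254712417116170014499277911234281641667985408,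
    20657999024695268717247353376024094994637646342633788102645274852325180976134729557037162826241102651487225375781979947008,
    16296287810675888690147565507275025288411747149327490005089123594835050398106693649467179008,
    14821387422376473014217086081112052205218558037201992197050570753012880593911808,
    21661481985318866090456360813617841433097164651373566993519371723551728967231450179999800047688590453885868835635965404913860608,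
    12259964326927110866866776217202473468949912977468817408,
    23817051317718446589520242536874132581700120107002038199303870846751188192899823151552628349788604516295066307994130118526061826166445047808],
   [8,
    17917957937422433684459538244547554224973163977877196279199912807710334969441287563047019946172856926208,
    15541351137805832567355695254588151253139254712417116170014499277911234281641667985408,
    8796093022208,
    18788340662190665823115844774314696219005460391266558965658327772257672200916867547709591987078149624255479808,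
    9223372036854775808,
    16296287810675888690147565507275025288411747149327490005089123594835050398106693649467179008,
    21661481985318866090456360813617841433097164651373566993519371723551728967231450179999800047688590453885868835635965404913860608,
    10633823966279326983230456482242756608,
    14821387422376473014217086081112052205218558037201992197050570753012880593911808,
    11692013098647223345629478661730264157247460343808,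
    20657999024695268717247353376024094994637646342633788102645274852325180976134729557037162826241102651487225375781979947008,
    19701003098197239606139520050071806902539869635232723333974146702122860885748605305707133127442457820403313995153408,
    22713710134237715329666368996500141698551292521478689383796568724394977753543685103943470334805111423773828800195818060422956300894208,
    10141204801825835211973625643008,
    13479973333575319897333507543509815336818572211270286240551805124608,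
    14134776518227074636666380005943348126619871175004951664972849610340958208,
    8388608,
    12855504354071922204335696738729300820177623950262342682411008,
    11150372599265311570767859136324180752990208,
    9671406556917033397649408,
    12259964326927110866866776217202473468949912977468817408,
    17087896287367280659160173649356416916821636178853222159576332862577757806245124400183696695492608,
    23817051317718446589520242536874132581700120107002038199303870846751188192899823151552628349788604516295066307994130118526061826166445047808]]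

/-- The packed columns of the transposes. -/
def colsT : List (List ℤ) :=
  [[8931391404927943003525262469306498255174130859432898150099082944619921850481629321822918460891268390424673420310349810376345009428565590021,
    -2977134253931280280905859286773539506721157173136367378170858446081285398018526408369694556059242602569105567172902632125119888663814078463,
    -2977134253931280291234858799130568035675929194068120941782176909845688567291327994795019930639115342414281291923665702912377444074246897663,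
    2977134253931280291234858799130568044634908162779337784011946032126533074777016615597918227033362915369469128329506990537049448313053511679,
    -2977134253931280291234858799121173865344825317208419343525365550559344837564190563646347141342356112836236990269570709662291932396638961663,
    2977122897076213172377193965946069785605079918421860202437485011568393764801557854816768115698233533777607041092424627282752390004688814079,
    -2977122897065382431384534532900841605198270997697163483977135852622409191604878567664688953600231146077449054160452215523686251825713905663,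
    2977134253931280280905869137284482775672055575816098488137480577373595804267325148076496338699358191752023505723446374435507069643029217279,
    -2977122897076213172377193965946069785605071374473716526567831000384485363530960404505094361144026355922197211598784190997651109423285796863,
    2977134253931280291234868649632117143254711232539362827686072870957199586557417692647011719184449347307458830915895561007307726860378439679,
    2977134253920449550242199366075945693897003909151231287069777469423186935657468432137889015960107763704133732980414857850699241173292154879,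
    2977134253931280291234858799130568044634899618823045964236954076597550897492761891677521517456144570560682003080633129535634079394934292479,
    2977122897076213162048194453598435435940382199121029555119113942121904297879857153423761967663097144349319131259904895303842841305080135679,
    2977134253931280280905859286782933677052243962107929768593699727344886128178072879654382609321617626979854008082897988235390245730889236479,
    8931391404927943003525262469306498255174130859432898150099082944619921850481629321822918460891268390424673420310349810385568381465420365821,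
    2977134253931280291234868649632117134295732263819997841550965804345416079576311728376410919695349441594851544259797470756153738234067681279,
    2977134253931280291234858799130568035675929194059972805647521945104309644711165183064570447787713385058126471820324759403686099283560366079,
    2977134253920449550242209216586888953888914799163453711719619226897700402818374446974006553188872306905697519136281799460725710361885409279,
    2977134253931280291234858799121173865344833861156563027165702541332813315750042545695273916140035966838109960250858937131786076989114286079,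
    2977134253920449550242199366085339855269120273351572367227165695258912560106506389463650000903563862941970377536436582567927662736053370879,
    -2977134253920449539913199853737705496645443585339524869908342523942018508783862535555012464884561446145765022962423115066182647794252120063,
    2977122897076213172377203816438224713893787655270327323724454502296624934645432761949188603851078335520972901914613987396440006229654241279,
    2977134253931280291234858799130568035675929194068120949552859889449383434204782934744259228222027759835214209200804017981958742522572308479,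
    14885659912790503585994980067567634326525989247569140049204787902131266342418193829729709888897336125870392887683780308149716816737879457795],
   [8,
    8796093022208,
    9223372036854775808,
    8388608,
    14134776518227074636666380005943348126619871175004951664972849610340958208,
    15541351137805832567355695254588151253139254712417116170014499277911234281641667985408,
    12259964326927110866866776217202473468949912977468817408,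
    9671406556917033397649408,
    16296287810675888690147565507275025288411747149327490005089123594835050398106693649467179008,
    22713710134237715329666368996500141698551292521478689383796568724394977753543685103943470334805111423773828800195818060422956300894208,
    12855504354071922204335696738729300820177623950262342682411008,
    13479973333575319897333507543509815336818572211270286240551805124608,
    11150372599265311570767859136324180752990208,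
    20657999024695268717247353376024094994637646342633788102645274852325180976134729557037162826241102651487225375781979947008,
    17917957937422433684459538244547554224973163977877196279199912807710334969441287563047019946172856926208,
    19701003098197239606139520050071806902539869635232723333974146702122860885748605305707133127442457820403313995153408,
    17087896287367280659160173649356416916821636178853222159576332862577757806245124400183696695492608,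
    10141204801825835211973625643008,
    14821387422376473014217086081112052205218558037201992197050570753012880593911808,
    11692013098647223345629478661730264157247460343808,
    18788340662190665823115844774314696219005460391266558965658327772257672200916867547709591987078149624255479808,
    21661481985318866090456360813617841433097164651373566993519371723551728967231450179999800047688590453885868835635965404913860608,
    10633823966279326983230456482242756608,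
    23817051317718446589520242536874132581700120107002038199303870846751188192899823151552628349788604516295066307994130118526061826166445047808],
   [8,
    17917957937422433684459538244547554224973163977877196279199912807710334969441287563047019946172856926208,
    9223372036854775808,
    10141204801825835211973625643008,
    20657999024695268717247353376024094994637646342633788102645274852325180976134729557037162826241102651487225375781979947008,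
    15541351137805832567355695254588151253139254712417116170014499277911234281641667985408,
    11692013098647223345629478661730264157247460343808,
    19701003098197239606139520050071806902539869635232723333974146702122860885748605305707133127442457820403313995153408,
    12855504354071922204335696738729300820177623950262342682411008,
    21661481985318866090456360813617841433097164651373566993519371723551728967231450179999800047688590453885868835635965404913860608,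
    18788340662190665823115844774314696219005460391266558965658327772257672200916867547709591987078149624255479808,
    16296287810675888690147565507275025288411747149327490005089123594835050398106693649467179008,
    17087896287367280659160173649356416916821636178853222159576332862577757806245124400183696695492608,
    12259964326927110866866776217202473468949912977468817408,
    8796093022208,
    10633823966279326983230456482242756608,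
    22713710134237715329666368996500141698551292521478689383796568724394977753543685103943470334805111423773828800195818060422956300894208,
    8388608,
    9671406556917033397649408,
    14134776518227074636666380005943348126619871175004951664972849610340958208,
    13479973333575319897333507543509815336818572211270286240551805124608,
    11150372599265311570767859136324180752990208,
    14821387422376473014217086081112052205218558037201992197050570753012880593911808,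
    23817051317718446589520242536874132581700120107002038199303870846751188192899823151552628349788604516295066307994130118526061826166445047808]]

/-- The images of the lattice generators. -/
def imgs : List (List (List ℤ)) :=
  [[[ep1, ep1, ep1, em1, ep1, em1, ep1, em1, ep1, em1, em1, em1, em1, em1, em3, em1, em1, em1, em1, em1, ep1, em1, em1, em1],
    [em2, ep0, ep0, em2, ep2, ep0, ep2, em2, ep0, ep0, ep0, ep0, ep0, ep0, em2, ep0, ep0, ep0, ep0, ep0, ep0, ep0, em2, em2],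
    [em1, ep1, ep1, ep1, ep1, em1, ep1, em1, ep1, em1, em1, em1, em1, ep1, em1, em1, ep1, em1, em1, ep1, ep1, ep1, em1, em3],
    [em3, ep1, ep1, em1, ep1, em1, ep1, em1, ep1, em1, em1, em1, em1, em1, ep1, em1, em1, em1, em1, em1, ep1, em1, em1, em1],
    [em1, ep1, ep1, em1, ep1, ep1, ep1, ep1, ep1, em1, em1, ep1, em1, em1, em1, em1, em1, em1, ep1, ep1, ep1, em1, em1, em3],
    [em2, ep0, ep0, em2, ep0, ep0, ep0, ep0, ep2, ep0, ep0, ep0, ep0, ep0, em2, em2, ep0, ep0, em2, ep0, ep2, ep0, ep0, em2],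
    [em1, ep1, ep1, em1, ep1, ep1, ep1, em1, ep1, em1, ep1, em1, em1, ep1, em1, ep1, em1, em1, em1, em1, ep1, em1, ep1, em3],
    [em2, ep0, ep0, ep0, ep2, em2, ep0, ep0, ep0, em2, ep0, ep0, ep0, ep0, em2, ep0, em2, ep0, ep0, ep0, ep2, ep0, ep0, em2],
    [em2, ep2, ep0, ep0, ep0, ep0, ep0, ep0, ep2, em2, ep0, ep0, ep0, ep0, em2, ep0, ep0, ep0, ep0, em2, ep0, ep0, em2, em2],
    [em2, ep0, ep2, ep0, ep2, ep0, ep0, ep0, ep0, ep0, ep0, ep0, em2, ep0, em2, em2, ep0, ep0, ep0, em2, ep0, ep0, ep0, em2],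
    [em2, ep0, ep2, ep0, ep0, ep0, ep0, ep0, ep0, ep0, ep0, em2, ep0, ep0, em2, ep0, ep0, ep0, ep0, ep0, ep2, em2, em2, em2],
    [em2, ep0, ep2, ep0, ep0, ep0, ep0, em2, ep2, ep0, em2, ep0, ep0, ep0, em2, ep0, em2, ep0, ep0, ep0, ep0, ep0, ep0, em2],
    [em2, ep0, ep2, ep0, ep0, ep0, ep2, ep0, ep0, em2, ep0, ep0, ep0, em2, em2, ep0, ep0, ep0, em2, ep0, ep0, ep0, ep0, em2],
    [em1, ep1, ep1, em1, ep1, em1, ep1, em1, ep1, em1, em1, em1, ep1, em1, em1, em1, ep1, ep1, ep1, em1, ep1, em1, ep1, em3],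
    [em2, ep2, ep2, em2, ep0, em2, ep0, ep0, ep0, ep0, ep0, ep0, ep0, ep0, em2, ep0, ep0, em2, ep0, ep0, ep0, ep0, ep0, em2],
    [em2, ep2, ep0, ep0, ep0, ep0, ep2, ep0, ep0, ep0, ep0, em2, ep0, ep0, em2, em2, em2, ep0, ep0, ep0, ep0, ep0, ep0, em2],
    [em2, ep0, ep0, ep0, ep2, ep0, ep0, ep0, ep2, ep0, ep0, em2, ep0, em2, em2, ep0, ep0, em2, ep0, ep0, ep0, ep0, ep0, em2],
    [em1, ep1, ep1, ep1, ep1, em1, ep1, em1, ep1, ep1, ep1, ep1, ep1, em1, em1, em1, em1, em1, em1, em1, ep1, em1, em1, em3],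
    [em2, ep2, ep0, ep0, ep2, ep0, ep0, ep0, ep0, ep0, em2, ep0, ep0, ep0, em2, ep0, ep0, ep0, em2, ep0, ep0, em2, ep0, em2],
    [em1, ep1, ep1, em1, ep1, em1, ep1, ep1, ep1, ep1, em1, em1, em1, em1, em1, ep1, em1, ep1, em1, em1, ep1, ep1, em1, em3],
    [em2, ep2, ep0, ep0, ep0, ep0, ep0, em2, ep0, ep0, ep0, ep0, em2, em2, em2, ep0, ep0, ep0, ep0, ep0, ep2, ep0, ep0, em2],
    [em2, ep0, ep0, ep0, ep0, ep0, ep2, ep0, ep0, ep0, em2, ep0, ep0, ep0, em2, ep0, ep0, em2, ep0, em2, ep2, ep0, ep0, em2],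
    [em2, ep0, ep0, ep0, ep0, em2, ep2, ep0, ep2, ep0, ep0, ep0, em2, ep0, em2, ep0, ep0, ep0, ep0, ep0, ep0, em2, ep0, em2],
    [ep0, ep0, ep0, ep0, ep0, ep0, ep0, ep0, ep0, ep0, ep0, ep0, ep0, ep0, ep0, ep0, ep0, ep0, ep0, ep0, ep0, ep0, ep0, ep0],
    [ep3, em1, em1, ep1, em1, ep1, em1, ep1, em1, ep1, ep1, ep1, ep1, ep1, ep3, ep1, ep1, ep1, ep1, ep1, em1, ep1, ep1, ep5],
    [em2, ep2, ep2, ep0, ep2, ep0, ep2, ep0, ep2, ep0, ep0, ep0, ep0, ep0, em2, ep0, ep0, ep0, ep0, ep0, ep2, ep0, ep0, ep0],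
    [ep1, ep1, ep1, ep1, ep1, em1, ep1, ep1, ep1, ep1, ep1, ep1, ep1, em1, em1, ep1, ep1, em1, em1, ep1, em1, em1, ep1, ep3],
    [em1, ep1, ep1, em1, ep1, em1, ep3, ep1, ep1, ep1, ep1, em1, ep1, em1, em1, ep1, ep1, ep1, ep1, ep1, em1, ep1, ep1, ep1],
    [ep0, ep2, ep0, ep2, ep0, ep0, ep2, ep0, ep0, ep0, ep0, ep0, ep0, ep0, ep0, ep0, ep2, ep2, ep0, ep2, ep0, ep0, ep2, ep2],
    [em1, ep1, ep1, ep1, ep1, em1, ep3, ep1, ep1, ep1, em1, ep1, ep1, em1, ep1, ep1, ep1, ep1, em1, em1, ep1, em1, ep1, ep1],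
    [ep1, ep1, ep1, ep1, ep1, ep1, ep1, ep1, ep1, ep1, ep1, ep1, ep1, em3, ep1, ep1, ep1, ep1, ep1, ep1, ep1, ep1, ep1, ep1],
    [ep0, ep2, ep0, ep0, ep0, ep0, ep0, ep0, ep0, ep2, ep0, ep2, ep2, ep0, ep0, ep0, ep2, ep0, ep0, ep0, ep2, ep0, ep2, ep2],
    [ep0, ep2, ep0, ep0, ep0, ep0, ep2, ep2, ep0, ep2, ep0, ep0, ep0, ep2, ep0, ep2, ep0, ep0, ep0, ep0, ep0, ep0, ep2, ep2],
    [em1, ep3, ep1, ep1, ep1, em1, ep1, ep1, em1, ep1, ep1, ep1, ep1, em1, em1, ep1, em1, ep1, em1, ep1, ep1, ep1, ep1, ep1],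
    [em1, ep3, em1, ep1, ep1, ep1, ep1, ep1, ep1, ep1, em1, em1, ep1, em1, em1, ep1, ep1, ep1, ep1, em1, ep1, ep1, ep1, ep1],
    [em1, ep1, ep1, ep1, ep1, em1, ep1, ep1, ep1, ep3, ep1, ep1, em1, em1, em1, ep1, ep1, em1, ep1, em1, ep1, ep1, ep1, ep1],
    [em1, ep1, ep1, ep1, em1, ep1, ep1, ep1, em1, ep1, ep1, em1, ep1, em1, em1, ep1, ep1, em1, ep1, ep1, ep1, ep1, ep1, ep3],
    [ep0, ep0, ep0, ep2, ep0, ep0, ep2, ep0, ep2, ep2, ep0, ep0, ep2, ep0, ep0, ep0, ep0, ep0, ep2, ep0, ep0, ep0, ep2, ep2]],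
   [[ep4, ep0, ep0, ep0, ep0, ep0, ep0, ep0, ep0, ep0, ep0, ep0, ep0, ep0, ep0, ep0, ep0, ep0, ep0, ep0, ep0, ep0, ep0, em4],
    [ep0, ep0, ep0, ep4, ep0, ep0, ep0, ep0, ep0, ep0, ep0, ep0, ep0, ep0, ep0, ep0, ep0, ep0, ep0, ep0, ep0, ep0, ep0, em4],
    [ep0, ep4, ep0, ep0, ep0, ep0, ep0, ep0, ep0, ep0, ep0, ep0, ep0, ep0, ep0, ep0, ep0, ep0, ep0, ep0, ep0, ep0, ep0, em4],
    [ep0, ep0, ep4, ep0, ep0, ep0, ep0, ep0, ep0, ep0, ep0, ep0, ep0, ep0, ep0, ep0, ep0, ep0, ep0, ep0, ep0, ep0, ep0, em4],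
    [ep0, ep0, ep0, ep0, ep0, ep0, ep0, ep4, ep0, ep0, ep0, ep0, ep0, ep0, ep0, ep0, ep0, ep0, ep0, ep0, ep0, ep0, ep0, em4],
    [ep0, ep0, ep0, ep0, ep0, ep0, ep0, ep0, ep0, ep0, ep0, ep0, ep0, ep0, ep0, ep0, ep0, ep4, ep0, ep0, ep0, ep0, ep0, em4],
    [ep0, ep0, ep0, ep0, ep0, ep0, ep0, ep0, ep0, ep0, ep0, ep0, ep0, ep0, ep0, ep0, ep0, ep0, ep0, ep0, ep0, ep0, ep4, em4],
    [ep0, ep0, ep0, ep0, ep0, ep0, ep0, ep0, ep0, ep0, ep0, ep0, ep4, ep0, ep0, ep0, ep0, ep0, ep0, ep0, ep0, ep0, ep0, em4],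
    [ep0, ep0, ep0, ep0, ep0, ep0, ep0, ep0, ep0, ep0, ep0, ep0, ep0, ep0, ep0, ep0, ep0, ep0, ep0, ep4, ep0, ep0, ep0, em4],
    [ep0, ep0, ep0, ep0, ep0, ep0, ep4, ep0, ep0, ep0, ep0, ep0, ep0, ep0, ep0, ep0, ep0, ep0, ep0, ep0, ep0, ep0, ep0, em4],
    [ep0, ep0, ep0, ep0, ep0, ep0, ep0, ep0, ep0, ep0, ep4, ep0, ep0, ep0, ep0, ep0, ep0, ep0, ep0, ep0, ep0, ep0, ep0, em4],
    [ep0, ep0, ep0, ep0, ep0, ep0, ep0, ep0, ep0, ep0, ep0, ep4, ep0, ep0, ep0, ep0, ep0, ep0, ep0, ep0, ep0, ep0, ep0, em4],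
    [ep0, ep0, ep0, ep0, ep4, ep0, ep0, ep0, ep0, ep0, ep0, ep0, ep0, ep0, ep0, ep0, ep0, ep0, ep0, ep0, ep0, ep0, ep0, em4],
    [ep0, ep0, ep0, ep0, ep0, ep0, ep0, ep0, ep0, ep0, ep0, ep0, ep0, ep0, ep0, ep0, ep0, ep0, ep4, ep0, ep0, ep0, ep0, em4],
    [ep0, ep0, ep0, ep0, ep0, ep4, ep0, ep0, ep0, ep0, ep0, ep0, ep0, ep0, ep0, ep0, ep0, ep0, ep0, ep0, ep0, ep0, ep0, em4],
    [ep0, ep0, ep0, ep0, ep0, ep0, ep0, ep0, ep4, ep0, ep0, ep0, ep0, ep0, ep0, ep0, ep0, ep0, ep0, ep0, ep0, ep0, ep0, em4],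
    [ep0, ep0, ep0, ep0, ep0, ep0, ep0, ep0, ep0, ep0, ep0, ep0, ep0, ep0, ep0, ep0, ep4, ep0, ep0, ep0, ep0, ep0, ep0, em4],
    [ep0, ep0, ep0, ep0, ep0, ep0, ep0, ep0, ep0, ep0, ep0, ep0, ep0, ep0, ep4, ep0, ep0, ep0, ep0, ep0, ep0, ep0, ep0, em4],
    [ep0, ep0, ep0, ep0, ep0, ep0, ep0, ep0, ep0, ep0, ep0, ep0, ep0, ep0, ep0, ep0, ep0, ep0, ep0, ep0, ep4, ep0, ep0, em4],
    [ep0, ep0, ep0, ep0, ep0, ep0, ep0, ep0, ep0, ep0, ep0, ep0, ep0, ep0, ep0, ep4, ep0, ep0, ep0, ep0, ep0, ep0, ep0, em4],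
    [ep0, ep0, ep0, ep0, ep0, ep0, ep0, ep0, ep0, ep0, ep0, ep0, ep0, ep4, ep0, ep0, ep0, ep0, ep0, ep0, ep0, ep0, ep0, em4],
    [ep0, ep0, ep0, ep0, ep0, ep0, ep0, ep0, ep0, ep0, ep0, ep0, ep0, ep0, ep0, ep0, ep0, ep0, ep0, ep0, ep0, ep4, ep0, em4],
    [ep0, ep0, ep0, ep0, ep0, ep0, ep0, ep0, ep0, ep4, ep0, ep0, ep0, ep0, ep0, ep0, ep0, ep0, ep0, ep0, ep0, ep0, ep0, em4],
    [ep0, ep0, ep0, ep0, ep0, ep0, ep0, ep0, ep0, ep0, ep0, ep0, ep0, ep0, ep0, ep0, ep0, ep0, ep0, ep0, ep0, ep0, ep0, ep0],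
    [ep0, ep0, ep0, ep0, ep0, ep0, ep0, ep0, ep0, ep0, ep0, ep0, ep0, ep0, ep0, ep0, ep0, ep0, ep0, ep0, ep0, ep0, ep0, ep8],
    [ep1, ep1, ep1, ep1, ep1, ep1, ep1, ep1, ep1, ep1, ep1, ep1, ep1, ep1, ep1, ep1, ep1, ep1, ep1, ep1, ep1, ep1, ep1, em3],
    [ep2, ep0, ep0, ep0, ep2, ep2, ep0, ep0, ep0, ep2, ep0, ep0, ep0, ep0, ep2, ep0, ep2, ep0, ep0, ep0, ep2, ep0, ep0, ep2],
    [ep0, ep0, ep0, ep2, ep2, ep2, ep0, ep0, ep2, ep2, ep0, ep0, ep0, ep0, ep0, ep2, ep2, ep0, ep2, ep0, ep0, ep0, ep0, ep0],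
    [ep0, ep2, ep0, ep0, ep2, ep0, ep0, ep0, ep2, ep2, ep0, ep0, ep0, ep2, ep0, ep0, ep0, ep0, ep2, ep0, ep2, ep0, ep0, ep2],
    [ep0, ep0, ep2, ep0, ep2, ep0, ep0, ep0, ep0, ep2, ep0, ep0, ep0, ep0, ep2, ep2, ep0, ep0, ep2, ep0, ep2, ep2, ep0, ep0],
    [ep0, ep0, ep0, ep0, ep2, ep0, ep0, ep2, ep0, ep0, ep0, ep0, ep0, ep2, ep2, ep2, ep2, ep0, ep2, ep0, ep0, ep0, ep0, ep2],
    [ep0, ep0, ep0, ep0, ep0, ep2, ep0, ep0, ep0, ep0, ep0, ep0, ep0, ep2, ep2, ep0, ep0, ep2, ep2, ep0, ep2, ep2, ep0, ep2],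
    [ep0, ep0, ep0, ep0, ep0, ep2, ep0, ep0, ep2, ep2, ep0, ep0, ep0, ep0, ep0, ep2, ep0, ep0, ep0, ep0, ep2, ep2, ep2, ep2],
    [ep0, ep0, ep0, ep0, ep2, ep2, ep0, ep0, ep2, ep0, ep0, ep0, ep2, ep2, ep2, ep2, ep0, ep0, ep0, ep0, ep2, ep0, ep0, ep0],
    [ep0, ep0, ep0, ep0, ep0, ep0, ep0, ep0, ep2, ep0, ep0, ep0, ep0, ep2, ep0, ep2, ep2, ep0, ep2, ep2, ep2, ep2, ep0, ep0],
    [ep0, ep0, ep0, ep0, ep0, ep2, ep2, ep0, ep0, ep2, ep0, ep0, ep0, ep2, ep2, ep2, ep2, ep0, ep0, ep0, ep0, ep2, ep0, ep0],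
    [ep0, ep0, ep0, ep0, ep2, ep2, ep0, ep0, ep2, ep0, ep2, ep0, ep0, ep2, ep0, ep0, ep2, ep0, ep0, ep0, ep0, ep2, ep0, ep2],
    [ep0, ep0, ep0, ep0, ep0, ep0, ep0, ep0, ep2, ep2, ep0, ep2, ep0, ep0, ep2, ep0, ep2, ep0, ep2, ep0, ep0, ep2, ep0, ep2]],
   [[ep4, ep0, ep0, ep0, ep0, ep0, ep0, ep0, ep0, ep0, ep0, ep0, ep0, ep0, ep0, ep0, ep0, ep0, ep0, ep0, ep0, ep0, ep0, em4],
    [ep0, ep0, ep0, ep0, ep0, ep0, ep0, ep0, ep0, ep0, ep0, ep0, ep0, ep0, ep0, ep0, ep0, ep4, ep0, ep0, ep0, ep0, ep0, em4],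
    [ep0, ep0, ep0, ep0, ep0, ep0, ep0, ep0, ep0, ep0, ep0, ep0, ep0, ep0, ep4, ep0, ep0, ep0, ep0, ep0, ep0, ep0, ep0, em4],
    [ep0, ep0, ep4, ep0, ep0, ep0, ep0, ep0, ep0, ep0, ep0, ep0, ep0, ep0, ep0, ep0, ep0, ep0, ep0, ep0, ep0, ep0, ep0, em4],
    [ep0, ep0, ep0, ep0, ep0, ep0, ep0, ep0, ep0, ep0, ep0, ep0, ep0, ep0, ep0, ep0, ep0, ep0, ep4, ep0, ep0, ep0, ep0, em4],
    [ep0, ep0, ep0, ep4, ep0, ep0, ep0, ep0, ep0, ep0, ep0, ep0, ep0, ep0, ep0, ep0, ep0, ep0, ep0, ep0, ep0, ep0, ep0, em4],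
    [ep0, ep0, ep0, ep0, ep0, ep0, ep0, ep0, ep0, ep0, ep0, ep0, ep0, ep0, ep0, ep4, ep0, ep0, ep0, ep0, ep0, ep0, ep0, em4],
    [ep0, ep0, ep0, ep0, ep0, ep0, ep0, ep0, ep0, ep0, ep0, ep0, ep0, ep0, ep0, ep0, ep0, ep0, ep0, ep0, ep0, ep4, ep0, em4],
    [ep0, ep0, ep0, ep0, ep0, ep0, ep4, ep0, ep0, ep0, ep0, ep0, ep0, ep0, ep0, ep0, ep0, ep0, ep0, ep0, ep0, ep0, ep0, em4],
    [ep0, ep0, ep0, ep0, ep0, ep0, ep0, ep0, ep0, ep0, ep0, ep0, ep0, ep4, ep0, ep0, ep0, ep0, ep0, ep0, ep0, ep0, ep0, em4],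
    [ep0, ep0, ep0, ep0, ep0, ep0, ep0, ep0, ep4, ep0, ep0, ep0, ep0, ep0, ep0, ep0, ep0, ep0, ep0, ep0, ep0, ep0, ep0, em4],
    [ep0, ep0, ep0, ep0, ep0, ep0, ep0, ep0, ep0, ep0, ep0, ep0, ep0, ep0, ep0, ep0, ep0, ep0, ep0, ep0, ep4, ep0, ep0, em4],
    [ep0, ep0, ep0, ep0, ep0, ep0, ep0, ep0, ep0, ep0, ep0, ep0, ep0, ep0, ep0, ep0, ep0, ep0, ep0, ep4, ep0, ep0, ep0, em4],
    [ep0, ep0, ep0, ep0, ep0, ep0, ep0, ep0, ep0, ep0, ep0, ep0, ep0, ep0, ep0, ep0, ep0, ep0, ep0, ep0, ep0, ep0, ep4, em4],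
    [ep0, ep0, ep0, ep0, ep0, ep4, ep0, ep0, ep0, ep0, ep0, ep0, ep0, ep0, ep0, ep0, ep0, ep0, ep0, ep0, ep0, ep0, ep0, em4],
    [ep0, ep0, ep0, ep0, ep0, ep0, ep0, ep0, ep0, ep0, ep0, ep4, ep0, ep0, ep0, ep0, ep0, ep0, ep0, ep0, ep0, ep0, ep0, em4],
    [ep0, ep0, ep0, ep0, ep0, ep0, ep0, ep0, ep0, ep0, ep0, ep0, ep4, ep0, ep0, ep0, ep0, ep0, ep0, ep0, ep0, ep0, ep0, em4],
    [ep0, ep4, ep0, ep0, ep0, ep0, ep0, ep0, ep0, ep0, ep0, ep0, ep0, ep0, ep0, ep0, ep0, ep0, ep0, ep0, ep0, ep0, ep0, em4],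
    [ep0, ep0, ep0, ep0, ep0, ep0, ep0, ep0, ep0, ep0, ep4, ep0, ep0, ep0, ep0, ep0, ep0, ep0, ep0, ep0, ep0, ep0, ep0, em4],
    [ep0, ep0, ep0, ep0, ep0, ep0, ep0, ep4, ep0, ep0, ep0, ep0, ep0, ep0, ep0, ep0, ep0, ep0, ep0, ep0, ep0, ep0, ep0, em4],
    [ep0, ep0, ep0, ep0, ep4, ep0, ep0, ep0, ep0, ep0, ep0, ep0, ep0, ep0, ep0, ep0, ep0, ep0, ep0, ep0, ep0, ep0, ep0, em4],
    [ep0, ep0, ep0, ep0, ep0, ep0, ep0, ep0, ep0, ep4, ep0, ep0, ep0, ep0, ep0, ep0, ep0, ep0, ep0, ep0, ep0, ep0, ep0, em4],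
    [ep0, ep0, ep0, ep0, ep0, ep0, ep0, ep0, ep0, ep0, ep0, ep0, ep0, ep0, ep0, ep0, ep4, ep0, ep0, ep0, ep0, ep0, ep0, em4],
    [ep0, ep0, ep0, ep0, ep0, ep0, ep0, ep0, ep0, ep0, ep0, ep0, ep0, ep0, ep0, ep0, ep0, ep0, ep0, ep0, ep0, ep0, ep0, ep0],
    [ep0, ep0, ep0, ep0, ep0, ep0, ep0, ep0, ep0, ep0, ep0, ep0, ep0, ep0, ep0, ep0, ep0, ep0, ep0, ep0, ep0, ep0, ep0, ep8],
    [ep1, ep1, ep1, ep1, ep1, ep1, ep1, ep1, ep1, ep1, ep1, ep1, ep1, ep1, ep1, ep1, ep1, ep1, ep1, ep1, ep1, ep1, ep1, em3],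
    [ep2, ep2, ep0, ep0, ep0, ep2, ep0, ep0, ep0, ep0, ep2, ep0, ep2, ep0, ep0, ep0, ep2, ep0, ep0, ep2, ep0, ep0, ep0, ep2],
    [ep0, ep0, ep0, ep0, ep0, ep2, ep0, ep2, ep0, ep0, ep0, ep2, ep2, ep0, ep0, ep0, ep2, ep2, ep0, ep2, ep0, ep0, ep2, ep0],
    [ep0, ep0, ep0, ep0, ep2, ep0, ep0, ep0, ep0, ep0, ep2, ep2, ep0, ep0, ep2, ep0, ep2, ep0, ep0, ep2, ep0, ep0, ep2, ep2],
    [ep0, ep2, ep2, ep0, ep0, ep0, ep0, ep2, ep0, ep2, ep2, ep0, ep0, ep0, ep0, ep0, ep2, ep0, ep0, ep2, ep0, ep0, ep2, ep0],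
    [ep0, ep2, ep0, ep0, ep2, ep0, ep0, ep2, ep0, ep0, ep0, ep0, ep2, ep0, ep0, ep0, ep0, ep0, ep2, ep2, ep0, ep0, ep2, ep2],
    [ep0, ep2, ep0, ep2, ep2, ep2, ep0, ep0, ep0, ep2, ep2, ep0, ep0, ep0, ep0, ep0, ep0, ep0, ep0, ep0, ep0, ep0, ep2, ep2],
    [ep0, ep0, ep0, ep0, ep0, ep2, ep0, ep2, ep0, ep2, ep2, ep2, ep0, ep0, ep0, ep2, ep2, ep0, ep0, ep0, ep0, ep0, ep0, ep2],
    [ep0, ep2, ep0, ep0, ep2, ep2, ep0, ep2, ep0, ep0, ep2, ep2, ep0, ep0, ep0, ep0, ep0, ep0, ep0, ep2, ep0, ep2, ep0, ep0],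
    [ep0, ep0, ep0, ep0, ep2, ep0, ep2, ep2, ep0, ep2, ep2, ep2, ep2, ep0, ep0, ep0, ep0, ep0, ep0, ep0, ep0, ep0, ep2, ep0],
    [ep0, ep2, ep0, ep0, ep2, ep2, ep0, ep2, ep0, ep2, ep0, ep0, ep2, ep2, ep0, ep0, ep2, ep0, ep0, ep0, ep0, ep0, ep0, ep0],
    [ep0, ep0, ep0, ep0, ep2, ep2, ep0, ep0, ep2, ep2, ep0, ep2, ep2, ep0, ep0, ep0, ep0, ep0, ep0, ep2, ep0, ep0, ep0, ep2],
    [ep0, ep2, ep0, ep0, ep0, ep0, ep0, ep0, ep0, ep2, ep0, ep2, ep2, ep0, ep0, ep0, ep2, ep0, ep0, ep0, ep2, ep0, ep2, ep2]]]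

/-- The images of the lattice generators under the transposes. -/
def imgsT : List (List (List ℤ)) :=
  [[[ep1, em1, ep1, em3, ep1, em1, ep1, em1, em1, em1, em1, em1, em1, ep1, em1, em1, em1, ep1, em1, ep1, em1, em1, em1, em1],
    [em1, em1, ep1, em1, ep1, em1, ep1, em1, ep1, em1, em1, em1, em1, ep1, ep1, ep1, em1, ep1, ep1, ep1, ep1, em1, em1, em3],
    [em1, em1, ep1, em1, ep1, em1, ep1, em1, em1, ep1, ep1, ep1, ep1, ep1, ep1, em1, em1, ep1, em1, ep1, em1, em1, em1, em3],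
    [em2, em2, ep2, em2, ep0, em2, ep0, ep0, ep0, ep0, ep0, ep0, ep0, ep0, em2, ep0, ep0, ep2, ep0, ep0, ep0, ep0, ep0, em2],
    [em1, ep1, ep1, em1, ep1, em1, ep1, ep1, em1, ep1, em1, em1, em1, ep1, em1, em1, ep1, ep1, ep1, ep1, em1, em1, em1, em3],
    [em2, ep0, ep0, em2, ep2, ep0, ep2, em2, ep0, ep0, ep0, ep0, ep0, ep0, em2, ep0, ep0, ep0, ep0, ep0, ep0, ep0, em2, em2],
    [em1, ep1, ep1, em1, ep1, em1, ep1, em1, em1, em1, em1, em1, ep1, ep1, em1, ep1, em1, ep1, em1, ep1, em1, ep1, ep1, em3],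
    [em2, em2, ep0, em2, ep2, ep0, ep0, ep0, ep0, ep0, ep0, em2, ep0, ep0, ep0, ep0, ep0, ep0, ep0, ep2, em2, ep0, ep0, em2],
    [em1, em1, ep1, em1, ep1, ep1, ep1, em1, ep1, em1, em1, ep1, em1, ep1, em1, em1, ep1, ep1, em1, ep1, em1, em1, ep1, em3],
    [em2, ep0, ep0, em2, ep0, ep0, ep0, em2, em2, ep0, ep0, ep0, em2, ep0, ep0, ep0, ep0, ep2, ep0, ep2, ep0, ep0, ep0, em2],
    [em2, ep0, ep0, em2, ep0, ep0, ep2, ep0, ep0, ep0, ep0, em2, ep0, ep0, ep0, ep0, ep0, ep2, em2, ep0, ep0, em2, ep0, em2],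
    [em2, ep0, ep0, em2, ep2, ep0, ep0, ep0, ep0, ep0, em2, ep0, ep0, ep0, ep0, em2, em2, ep2, ep0, ep0, ep0, ep0, ep0, em2],
    [em2, ep0, ep0, em2, ep0, ep0, ep0, ep0, ep0, em2, ep0, ep0, ep0, ep2, ep0, ep0, ep0, ep2, ep0, ep0, em2, ep0, em2, em2],
    [em2, ep0, ep2, em2, ep0, ep0, ep2, ep0, ep0, ep0, ep0, ep0, em2, ep0, ep0, ep0, em2, ep0, ep0, ep0, em2, ep0, ep0, em2],
    [em3, em1, ep1, ep1, ep1, em1, ep1, em1, em1, em1, em1, em1, em1, ep1, em1, em1, em1, ep1, em1, ep1, em1, em1, em1, em1],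
    [em2, ep0, ep0, em2, ep0, em2, ep2, ep0, ep0, em2, ep0, ep0, ep0, ep0, ep0, em2, ep0, ep0, ep0, ep2, ep0, ep0, ep0, em2],
    [em2, ep0, ep2, em2, ep0, ep0, ep0, em2, ep0, ep0, ep0, em2, ep0, ep2, ep0, em2, ep0, ep0, ep0, ep0, ep0, ep0, ep0, em2],
    [em2, ep0, ep0, em2, ep0, ep0, ep0, ep0, ep0, ep0, ep0, ep0, ep0, ep2, em2, ep0, em2, ep0, ep0, ep2, ep0, em2, ep0, em2],
    [em2, ep0, ep0, em2, ep2, em2, ep0, ep0, ep0, ep0, ep0, ep0, em2, ep2, ep0, ep0, ep0, ep0, em2, ep0, ep0, ep0, ep0, em2],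
    [em2, ep0, ep2, em2, ep2, ep0, ep0, ep0, em2, em2, ep0, ep0, ep0, ep0, ep0, ep0, ep0, ep0, ep0, ep0, ep0, em2, ep0, em2],
    [em1, em1, ep1, em1, ep1, ep1, ep1, ep1, em1, em1, ep1, em1, em1, ep1, em1, em1, em1, ep1, em1, ep1, ep1, ep1, em1, em3],
    [em2, ep0, ep2, em2, ep0, ep0, ep0, ep0, ep0, ep0, em2, ep0, ep0, ep0, ep0, ep0, ep0, ep0, em2, ep2, ep0, ep0, em2, em2],
    [em2, em2, ep0, em2, ep0, ep0, ep2, ep0, em2, ep0, em2, ep0, ep0, ep2, ep0, ep0, ep0, ep0, ep0, ep0, ep0, ep0, ep0, em2],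
    [ep0, ep0, ep0, ep0, ep0, ep0, ep0, ep0, ep0, ep0, ep0, ep0, ep0, ep0, ep0, ep0, ep0, ep0, ep0, ep0, ep0, ep0, ep0, ep0],
    [ep3, ep1, em1, ep3, em1, ep1, em1, ep1, ep1, ep1, ep1, ep1, ep1, em1, ep1, ep1, ep1, em1, ep1, em1, ep1, ep1, ep1, ep5],
    [em2, ep0, ep2, em2, ep2, ep0, ep2, ep0, ep0, ep0, ep0, ep0, ep0, ep2, ep0, ep0, ep0, ep2, ep0, ep2, ep0, ep0, ep0, ep0],
    [ep0, ep0, ep0, ep0, ep0, ep0, ep0, ep0, ep0, ep0, ep0, ep0, ep0, ep4, ep0, ep0, ep0, ep0, ep0, ep0, ep0, ep0, ep0, ep4],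
    [em2, ep0, ep2, ep0, ep0, ep0, ep2, ep0, ep0, em2, ep0, ep0, ep0, ep2, ep2, ep0, ep0, ep0, ep2, ep0, ep0, ep0, ep0, ep2],
    [ep0, ep0, ep0, ep0, ep0, ep0, ep2, ep2, ep0, ep0, ep2, ep2, ep0, ep2, ep2, ep0, ep0, ep0, ep0, ep0, ep0, ep2, ep0, ep2],
    [em2, ep0, ep2, em2, ep0, ep0, ep0, ep2, ep0, ep0, ep0, ep2, ep0, ep2, ep0, ep2, ep0, ep0, ep0, ep0, ep0, ep0, ep0, ep2],
    [ep0, ep2, ep2, ep0, ep0, ep2, ep0, ep2, ep0, ep0, ep2, ep0, ep0, ep2, ep0, ep0, ep0, ep0, ep2, ep0, ep0, ep0, ep0, ep2],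
    [em1, ep1, ep1, ep1, ep1, ep1, ep1, ep1, ep1, ep1, ep1, ep1, em1, ep1, em1, ep1, em1, em1, em1, ep1, ep1, ep1, em1, ep3],
    [em1, ep1, ep1, ep1, ep1, em1, ep1, ep1, em1, em1, em1, ep1, ep1, ep1, ep1, ep1, ep1, em1, em1, ep1, ep1, ep1, ep1, ep3],
    [em2, ep0, ep0, ep0, ep2, ep0, ep0, ep2, ep0, em2, ep2, ep0, ep0, ep2, ep0, ep0, ep0, ep0, ep0, ep2, ep0, ep0, ep0, ep2],
    [em1, ep1, ep3, em1, ep1, ep1, ep1, ep1, ep1, em1, ep1, ep1, em1, ep1, ep1, em1, ep1, em1, em1, ep1, ep1, ep1, ep1, ep1],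
    [em2, ep0, ep2, ep0, ep0, ep2, ep0, ep0, em2, ep0, ep0, ep0, ep0, ep2, ep0, ep0, ep0, ep0, ep0, ep2, ep2, ep0, ep0, ep2],
    [em1, ep1, ep1, ep1, em1, ep1, ep1, ep1, ep1, em1, ep1, em1, ep1, ep1, ep1, em1, ep1, ep1, em1, ep1, ep1, ep1, em1, ep3],
    [em1, ep1, ep1, em1, em1, ep1, ep1, ep1, ep1, ep1, em1, ep1, ep1, ep1, ep1, em1, em1, em1, ep1, ep1, ep1, ep1, ep1, ep3]],
   [[ep4, ep0, ep0, ep0, ep0, ep0, ep0, ep0, ep0, ep0, ep0, ep0, ep0, ep0, ep0, ep0, ep0, ep0, ep0, ep0, ep0, ep0, ep0, em4],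
    [ep0, ep0, ep4, ep0, ep0, ep0, ep0, ep0, ep0, ep0, ep0, ep0, ep0, ep0, ep0, ep0, ep0, ep0, ep0, ep0, ep0, ep0, ep0, em4],
    [ep0, ep0, ep0, ep4, ep0, ep0, ep0, ep0, ep0, ep0, ep0, ep0, ep0, ep0, ep0, ep0, ep0, ep0, ep0, ep0, ep0, ep0, ep0, em4],
    [ep0, ep4, ep0, ep0, ep0, ep0, ep0, ep0, ep0, ep0, ep0, ep0, ep0, ep0, ep0, ep0, ep0, ep0, ep0, ep0, ep0, ep0, ep0, em4],
    [ep0, ep0, ep0, ep0, ep0, ep0, ep0, ep0, ep0, ep0, ep0, ep0, ep4, ep0, ep0, ep0, ep0, ep0, ep0, ep0, ep0, ep0, ep0, em4],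
    [ep0, ep0, ep0, ep0, ep0, ep0, ep0, ep0, ep0, ep0, ep0, ep0, ep0, ep0, ep4, ep0, ep0, ep0, ep0, ep0, ep0, ep0, ep0, em4],
    [ep0, ep0, ep0, ep0, ep0, ep0, ep0, ep0, ep0, ep4, ep0, ep0, ep0, ep0, ep0, ep0, ep0, ep0, ep0, ep0, ep0, ep0, ep0, em4],
    [ep0, ep0, ep0, ep0, ep4, ep0, ep0, ep0, ep0, ep0, ep0, ep0, ep0, ep0, ep0, ep0, ep0, ep0, ep0, ep0, ep0, ep0, ep0, em4],
    [ep0, ep0, ep0, ep0, ep0, ep0, ep0, ep0, ep0, ep0, ep0, ep0, ep0, ep0, ep0, ep4, ep0, ep0, ep0, ep0, ep0, ep0, ep0, em4],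
    [ep0, ep0, ep0, ep0, ep0, ep0, ep0, ep0, ep0, ep0, ep0, ep0, ep0, ep0, ep0, ep0, ep0, ep0, ep0, ep0, ep0, ep0, ep4, em4],
    [ep0, ep0, ep0, ep0, ep0, ep0, ep0, ep0, ep0, ep0, ep4, ep0, ep0, ep0, ep0, ep0, ep0, ep0, ep0, ep0, ep0, ep0, ep0, em4],
    [ep0, ep0, ep0, ep0, ep0, ep0, ep0, ep0, ep0, ep0, ep0, ep4, ep0, ep0, ep0, ep0, ep0, ep0, ep0, ep0, ep0, ep0, ep0, em4],
    [ep0, ep0, ep0, ep0, ep0, ep0, ep0, ep4, ep0, ep0, ep0, ep0, ep0, ep0, ep0, ep0, ep0, ep0, ep0, ep0, ep0, ep0, ep0, em4],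
    [ep0, ep0, ep0, ep0, ep0, ep0, ep0, ep0, ep0, ep0, ep0, ep0, ep0, ep0, ep0, ep0, ep0, ep0, ep0, ep0, ep4, ep0, ep0, em4],
    [ep0, ep0, ep0, ep0, ep0, ep0, ep0, ep0, ep0, ep0, ep0, ep0, ep0, ep0, ep0, ep0, ep0, ep4, ep0, ep0, ep0, ep0, ep0, em4],
    [ep0, ep0, ep0, ep0, ep0, ep0, ep0, ep0, ep0, ep0, ep0, ep0, ep0, ep0, ep0, ep0, ep0, ep0, ep0, ep4, ep0, ep0, ep0, em4],
    [ep0, ep0, ep0, ep0, ep0, ep0, ep0, ep0, ep0, ep0, ep0, ep0, ep0, ep0, ep0, ep0, ep4, ep0, ep0, ep0, ep0, ep0, ep0, em4],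
    [ep0, ep0, ep0, ep0, ep0, ep4, ep0, ep0, ep0, ep0, ep0, ep0, ep0, ep0, ep0, ep0, ep0, ep0, ep0, ep0, ep0, ep0, ep0, em4],
    [ep0, ep0, ep0, ep0, ep0, ep0, ep0, ep0, ep0, ep0, ep0, ep0, ep0, ep4, ep0, ep0, ep0, ep0, ep0, ep0, ep0, ep0, ep0, em4],
    [ep0, ep0, ep0, ep0, ep0, ep0, ep0, ep0, ep4, ep0, ep0, ep0, ep0, ep0, ep0, ep0, ep0, ep0, ep0, ep0, ep0, ep0, ep0, em4],
    [ep0, ep0, ep0, ep0, ep0, ep0, ep0, ep0, ep0, ep0, ep0, ep0, ep0, ep0, ep0, ep0, ep0, ep0, ep4, ep0, ep0, ep0, ep0, em4],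
    [ep0, ep0, ep0, ep0, ep0, ep0, ep0, ep0, ep0, ep0, ep0, ep0, ep0, ep0, ep0, ep0, ep0, ep0, ep0, ep0, ep0, ep4, ep0, em4],
    [ep0, ep0, ep0, ep0, ep0, ep0, ep4, ep0, ep0, ep0, ep0, ep0, ep0, ep0, ep0, ep0, ep0, ep0, ep0, ep0, ep0, ep0, ep0, em4],
    [ep0, ep0, ep0, ep0, ep0, ep0, ep0, ep0, ep0, ep0, ep0, ep0, ep0, ep0, ep0, ep0, ep0, ep0, ep0, ep0, ep0, ep0, ep0, ep0],
    [ep0, ep0, ep0, ep0, ep0, ep0, ep0, ep0, ep0, ep0, ep0, ep0, ep0, ep0, ep0, ep0, ep0, ep0, ep0, ep0, ep0, ep0, ep0, ep8],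
    [ep1, ep1, ep1, ep1, ep1, ep1, ep1, ep1, ep1, ep1, ep1, ep1, ep1, ep1, ep1, ep1, ep1, ep1, ep1, ep1, ep1, ep1, ep1, em3],
    [ep2, ep0, ep0, ep0, ep0, ep2, ep2, ep2, ep0, ep0, ep0, ep0, ep0, ep2, ep0, ep0, ep2, ep2, ep0, ep0, ep0, ep0, ep0, ep2],
    [ep0, ep0, ep2, ep0, ep0, ep0, ep2, ep2, ep2, ep0, ep0, ep0, ep0, ep0, ep0, ep0, ep2, ep2, ep0, ep2, ep2, ep0, ep0, ep0],
    [ep0, ep0, ep0, ep2, ep0, ep0, ep2, ep2, ep0, ep0, ep0, ep0, ep0, ep2, ep0, ep0, ep0, ep0, ep2, ep2, ep2, ep0, ep0, ep2],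
    [ep0, ep2, ep0, ep0, ep0, ep2, ep2, ep2, ep2, ep0, ep0, ep0, ep0, ep2, ep0, ep0, ep0, ep0, ep0, ep0, ep2, ep2, ep0, ep0],
    [ep0, ep0, ep0, ep0, ep0, ep2, ep0, ep2, ep2, ep0, ep0, ep0, ep2, ep0, ep0, ep0, ep2, ep0, ep2, ep0, ep2, ep0, ep0, ep2],
    [ep0, ep0, ep0, ep0, ep0, ep2, ep0, ep0, ep0, ep0, ep0, ep0, ep0, ep2, ep2, ep0, ep0, ep2, ep2, ep0, ep2, ep2, ep0, ep2],
    [ep0, ep0, ep0, ep0, ep0, ep0, ep2, ep0, ep2, ep2, ep0, ep0, ep0, ep2, ep0, ep0, ep0, ep2, ep0, ep2, ep0, ep2, ep0, ep2],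
    [ep0, ep0, ep0, ep0, ep2, ep2, ep0, ep2, ep2, ep0, ep0, ep0, ep0, ep2, ep0, ep0, ep0, ep2, ep2, ep2, ep0, ep0, ep0, ep0],
    [ep0, ep0, ep0, ep0, ep0, ep0, ep0, ep0, ep2, ep0, ep0, ep0, ep0, ep2, ep0, ep2, ep2, ep0, ep2, ep2, ep2, ep2, ep0, ep0],
    [ep0, ep0, ep0, ep0, ep0, ep2, ep2, ep0, ep2, ep0, ep0, ep0, ep0, ep0, ep0, ep0, ep2, ep2, ep2, ep0, ep0, ep2, ep2, ep0],
    [ep0, ep0, ep0, ep0, ep0, ep0, ep0, ep2, ep0, ep0, ep2, ep0, ep0, ep0, ep0, ep0, ep2, ep2, ep2, ep2, ep0, ep2, ep0, ep2],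
    [ep0, ep0, ep0, ep0, ep0, ep2, ep2, ep0, ep0, ep0, ep0, ep2, ep0, ep0, ep0, ep0, ep2, ep0, ep0, ep2, ep2, ep2, ep0, ep2]],
   [[ep4, ep0, ep0, ep0, ep0, ep0, ep0, ep0, ep0, ep0, ep0, ep0, ep0, ep0, ep0, ep0, ep0, ep0, ep0, ep0, ep0, ep0, ep0, em4],
    [ep0, ep0, ep0, ep0, ep0, ep0, ep0, ep0, ep0, ep0, ep0, ep0, ep0, ep0, ep0, ep0, ep0, ep4, ep0, ep0, ep0, ep0, ep0, em4],
    [ep0, ep0, ep0, ep4, ep0, ep0, ep0, ep0, ep0, ep0, ep0, ep0, ep0, ep0, ep0, ep0, ep0, ep0, ep0, ep0, ep0, ep0, ep0, em4],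
    [ep0, ep0, ep0, ep0, ep0, ep4, ep0, ep0, ep0, ep0, ep0, ep0, ep0, ep0, ep0, ep0, ep0, ep0, ep0, ep0, ep0, ep0, ep0, em4],
    [ep0, ep0, ep0, ep0, ep0, ep0, ep0, ep0, ep0, ep0, ep0, ep0, ep0, ep0, ep0, ep0, ep0, ep0, ep0, ep0, ep4, ep0, ep0, em4],
    [ep0, ep0, ep0, ep0, ep0, ep0, ep0, ep0, ep0, ep0, ep0, ep0, ep0, ep0, ep4, ep0, ep0, ep0, ep0, ep0, ep0, ep0, ep0, em4],
    [ep0, ep0, ep0, ep0, ep0, ep0, ep0, ep0, ep4, ep0, ep0, ep0, ep0, ep0, ep0, ep0, ep0, ep0, ep0, ep0, ep0, ep0, ep0, em4],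
    [ep0, ep0, ep0, ep0, ep0, ep0, ep0, ep0, ep0, ep0, ep0, ep0, ep0, ep0, ep0, ep0, ep0, ep0, ep0, ep4, ep0, ep0, ep0, em4],
    [ep0, ep0, ep0, ep0, ep0, ep0, ep0, ep0, ep0, ep0, ep4, ep0, ep0, ep0, ep0, ep0, ep0, ep0, ep0, ep0, ep0, ep0, ep0, em4],
    [ep0, ep0, ep0, ep0, ep0, ep0, ep0, ep0, ep0, ep0, ep0, ep0, ep0, ep0, ep0, ep0, ep0, ep0, ep0, ep0, ep0, ep4, ep0, em4],
    [ep0, ep0, ep0, ep0, ep0, ep0, ep0, ep0, ep0, ep0, ep0, ep0, ep0, ep0, ep0, ep0, ep0, ep0, ep4, ep0, ep0, ep0, ep0, em4],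
    [ep0, ep0, ep0, ep0, ep0, ep0, ep0, ep0, ep0, ep0, ep0, ep0, ep0, ep0, ep0, ep4, ep0, ep0, ep0, ep0, ep0, ep0, ep0, em4],
    [ep0, ep0, ep0, ep0, ep0, ep0, ep0, ep0, ep0, ep0, ep0, ep0, ep0, ep0, ep0, ep0, ep4, ep0, ep0, ep0, ep0, ep0, ep0, em4],
    [ep0, ep0, ep0, ep0, ep0, ep0, ep0, ep0, ep0, ep4, ep0, ep0, ep0, ep0, ep0, ep0, ep0, ep0, ep0, ep0, ep0, ep0, ep0, em4],
    [ep0, ep0, ep4, ep0, ep0, ep0, ep0, ep0, ep0, ep0, ep0, ep0, ep0, ep0, ep0, ep0, ep0, ep0, ep0, ep0, ep0, ep0, ep0, em4],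
    [ep0, ep0, ep0, ep0, ep0, ep0, ep4, ep0, ep0, ep0, ep0, ep0, ep0, ep0, ep0, ep0, ep0, ep0, ep0, ep0, ep0, ep0, ep0, em4],
    [ep0, ep0, ep0, ep0, ep0, ep0, ep0, ep0, ep0, ep0, ep0, ep0, ep0, ep0, ep0, ep0, ep0, ep0, ep0, ep0, ep0, ep0, ep4, em4],
    [ep0, ep4, ep0, ep0, ep0, ep0, ep0, ep0, ep0, ep0, ep0, ep0, ep0, ep0, ep0, ep0, ep0, ep0, ep0, ep0, ep0, ep0, ep0, em4],
    [ep0, ep0, ep0, ep0, ep4, ep0, ep0, ep0, ep0, ep0, ep0, ep0, ep0, ep0, ep0, ep0, ep0, ep0, ep0, ep0, ep0, ep0, ep0, em4],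
    [ep0, ep0, ep0, ep0, ep0, ep0, ep0, ep0, ep0, ep0, ep0, ep0, ep4, ep0, ep0, ep0, ep0, ep0, ep0, ep0, ep0, ep0, ep0, em4],
    [ep0, ep0, ep0, ep0, ep0, ep0, ep0, ep0, ep0, ep0, ep0, ep4, ep0, ep0, ep0, ep0, ep0, ep0, ep0, ep0, ep0, ep0, ep0, em4],
    [ep0, ep0, ep0, ep0, ep0, ep0, ep0, ep4, ep0, ep0, ep0, ep0, ep0, ep0, ep0, ep0, ep0, ep0, ep0, ep0, ep0, ep0, ep0, em4],
    [ep0, ep0, ep0, ep0, ep0, ep0, ep0, ep0, ep0, ep0, ep0, ep0, ep0, ep4, ep0, ep0, ep0, ep0, ep0, ep0, ep0, ep0, ep0, em4],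
    [ep0, ep0, ep0, ep0, ep0, ep0, ep0, ep0, ep0, ep0, ep0, ep0, ep0, ep0, ep0, ep0, ep0, ep0, ep0, ep0, ep0, ep0, ep0, ep0],
    [ep0, ep0, ep0, ep0, ep0, ep0, ep0, ep0, ep0, ep0, ep0, ep0, ep0, ep0, ep0, ep0, ep0, ep0, ep0, ep0, ep0, ep0, ep0, ep8],
    [ep1, ep1, ep1, ep1, ep1, ep1, ep1, ep1, ep1, ep1, ep1, ep1, ep1, ep1, ep1, ep1, ep1, ep1, ep1, ep1, ep1, ep1, ep1, em3],
    [ep2, ep2, ep2, ep0, ep2, ep0, ep0, ep0, ep0, ep0, ep0, ep0, ep0, ep2, ep0, ep0, ep2, ep0, ep0, ep0, ep0, ep0, ep2, ep2],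
    [ep0, ep0, ep2, ep0, ep0, ep0, ep2, ep0, ep0, ep2, ep0, ep0, ep2, ep2, ep0, ep0, ep2, ep2, ep0, ep0, ep0, ep0, ep2, ep0],
    [ep0, ep0, ep0, ep2, ep2, ep0, ep2, ep0, ep0, ep2, ep0, ep2, ep0, ep2, ep0, ep0, ep2, ep0, ep0, ep0, ep0, ep0, ep0, ep2],
    [ep0, ep2, ep0, ep0, ep2, ep2, ep0, ep2, ep0, ep2, ep0, ep0, ep2, ep2, ep0, ep0, ep2, ep0, ep0, ep0, ep0, ep0, ep0, ep0],
    [ep0, ep2, ep0, ep0, ep0, ep0, ep0, ep0, ep0, ep2, ep0, ep2, ep2, ep0, ep0, ep0, ep2, ep0, ep0, ep0, ep2, ep0, ep2, ep2],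
    [ep0, ep2, ep2, ep0, ep2, ep0, ep0, ep2, ep0, ep2, ep0, ep2, ep0, ep0, ep2, ep0, ep0, ep0, ep0, ep0, ep0, ep0, ep0, ep2],
    [ep0, ep0, ep2, ep0, ep2, ep0, ep2, ep2, ep2, ep0, ep0, ep0, ep2, ep2, ep0, ep0, ep0, ep0, ep0, ep0, ep0, ep0, ep0, ep2],
    [ep0, ep2, ep2, ep0, ep2, ep0, ep2, ep0, ep0, ep0, ep0, ep2, ep2, ep0, ep0, ep0, ep2, ep0, ep0, ep2, ep0, ep0, ep0, ep0],
    [ep0, ep0, ep0, ep0, ep2, ep0, ep2, ep2, ep0, ep2, ep2, ep2, ep2, ep0, ep0, ep0, ep0, ep0, ep0, ep0, ep0, ep0, ep2, ep0],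
    [ep0, ep2, ep2, ep0, ep0, ep0, ep0, ep2, ep0, ep0, ep0, ep2, ep2, ep2, ep0, ep0, ep0, ep0, ep0, ep0, ep0, ep2, ep2, ep0],
    [ep0, ep0, ep2, ep0, ep0, ep0, ep2, ep2, ep0, ep0, ep0, ep2, ep0, ep0, ep0, ep0, ep2, ep0, ep2, ep0, ep0, ep0, ep2, ep2],
    [ep0, ep2, ep0, ep0, ep0, ep0, ep2, ep2, ep0, ep2, ep0, ep0, ep0, ep2, ep0, ep2, ep0, ep0, ep0, ep0, ep0, ep0, ep2, ep2]]]

/-- The fixed points of the involution. -/
def fixL : List (List ℤ) :=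
  [[em4, ep0, ep0, ep0, ep0, ep0, ep0, ep0, ep0, ep0, ep0, ep0, ep0, ep0, ep0, ep0, ep0, ep0, ep0, ep0, ep0, ep0, ep0, ep4],
   [em2, em2, ep0, ep0, ep0, ep0, ep0, ep0, ep0, ep0, ep0, ep0, ep0, ep2, ep0, ep2, ep0, ep2, ep2, ep2, ep0, ep0, ep0, ep2],
   [em2, ep2, ep0, ep0, ep0, ep0, ep0, ep0, ep0, ep0, ep0, ep0, ep0, ep2, ep0, ep2, ep0, em2, ep2, ep2, ep0, ep0, ep0, ep2],
   [em2, ep0, ep0, em2, ep0, ep0, ep0, ep0, ep0, ep0, ep0, ep0, ep0, ep2, ep2, ep0, ep2, ep0, ep0, ep2, ep0, ep2, ep0, ep2],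
   [em2, ep0, ep0, ep2, ep0, ep0, ep0, ep0, ep0, ep0, ep0, ep0, ep0, ep2, em2, ep0, ep2, ep0, ep0, ep2, ep0, ep2, ep0, ep2],
   [ep0, ep2, ep0, ep2, ep0, ep0, ep0, ep0, ep0, ep0, ep0, ep0, ep0, ep0, ep2, ep2, ep2, ep2, ep2, ep0, ep0, ep2, ep0, ep0],
   [em2, ep0, em2, ep0, ep0, ep2, ep0, ep0, ep0, ep0, ep0, ep0, ep0, ep0, ep0, ep2, ep2, ep0, ep2, ep0, ep0, ep2, ep0, ep2],
   [em2, ep0, ep2, ep0, ep0, em2, ep0, ep0, ep0, ep0, ep0, ep0, ep0, ep0, ep0, ep2, ep2, ep0, ep2, ep0, ep0, ep2, ep0, ep2],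
   [ep0, ep2, ep2, ep0, ep0, ep2, ep0, ep0, ep0, ep0, ep0, ep0, ep0, ep2, ep0, ep0, ep2, ep2, ep0, ep2, ep0, ep2, ep0, ep0],
   [ep0, ep0, ep2, ep2, ep0, ep2, ep0, ep0, ep0, ep0, ep0, ep0, ep0, ep2, ep2, ep2, ep0, ep0, ep2, ep2, ep0, ep0, ep0, ep0],
   [em2, em2, ep2, ep2, ep0, ep2, ep0, ep0, ep0, ep0, ep0, ep0, ep0, ep0, ep2, ep0, ep0, ep2, ep0, ep0, ep0, ep0, ep0, ep2],
   [em2, ep2, em2, ep2, ep0, ep2, ep0, ep0, ep0, ep0, ep0, ep0, ep0, ep0, ep2, ep0, ep0, ep2, ep0, ep0, ep0, ep0, ep0, ep2],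
   [em2, ep2, ep2, em2, ep0, ep2, ep0, ep0, ep0, ep0, ep0, ep0, ep0, ep0, ep2, ep0, ep0, ep2, ep0, ep0, ep0, ep0, ep0, ep2],
   [em2, ep2, ep2, ep2, ep0, em2, ep0, ep0, ep0, ep0, ep0, ep0, ep0, ep0, ep2, ep0, ep0, ep2, ep0, ep0, ep0, ep0, ep0, ep2],
   [em2, ep2, ep2, ep2, ep0, ep2, ep0, ep0, ep0, ep0, ep0, ep0, ep0, ep0, em2, ep0, ep0, ep2, ep0, ep0, ep0, ep0, ep0, ep2],
   [em2, ep2, ep2, ep2, ep0, ep2, ep0, ep0, ep0, ep0, ep0, ep0, ep0, ep0, ep2, ep0, ep0, em2, ep0, ep0, ep0, ep0, ep0, ep2],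
   [em1, ep1, ep3, em1, em1, ep1, em1, ep1, ep1, ep1, ep1, ep1, ep1, em1, ep1, ep1, ep1, em1, ep1, em1, ep1, ep1, ep1, ep1],
   [em1, ep1, em1, ep3, em1, ep1, em1, ep1, ep1, ep1, ep1, ep1, ep1, em1, ep1, ep1, ep1, em1, ep1, em1, ep1, ep1, ep1, ep1],
   [em1, ep1, em1, em1, em1, ep1, em1, ep1, ep1, ep1, ep1, ep1, ep1, em1, ep1, ep1, ep1, ep3, ep1, em1, ep1, ep1, ep1, ep1],
   [em1, ep1, ep1, ep1, em1, ep3, em1, ep1, ep1, ep1, ep1, ep1, ep1, ep1, em1, em1, ep1, em1, em1, ep1, ep1, ep1, ep1, ep1],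
   [em1, ep1, ep1, ep1, em1, em1, em1, ep1, ep1, ep1, ep1, ep1, ep1, ep1, ep3, em1, ep1, em1, em1, ep1, ep1, ep1, ep1, ep1],
   [em1, ep1, ep1, ep1, em1, em1, em1, ep1, ep1, ep1, ep1, ep1, ep1, ep1, em1, em1, ep1, ep3, em1, ep1, ep1, ep1, ep1, ep1],
   [em1, ep3, ep1, em1, em1, em1, em1, ep1, ep1, ep1, ep1, ep1, ep1, ep1, ep1, ep1, em1, ep1, ep1, ep1, ep1, em1, ep1, ep1],
   [em1, em1, ep1, ep3, em1, em1, em1, ep1, ep1, ep1, ep1, ep1, ep1, ep1, ep1, ep1, em1, ep1, ep1, ep1, ep1, em1, ep1, ep1],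
   [em1, em1, ep1, em1, em1, ep3, em1, ep1, ep1, ep1, ep1, ep1, ep1, ep1, ep1, ep1, em1, ep1, ep1, ep1, ep1, em1, ep1, ep1],
   [em1, ep3, em1, ep1, ep1, ep1, ep1, em1, ep1, ep1, ep1, ep1, ep1, ep1, em1, em1, ep1, ep1, em1, ep1, ep1, ep1, em1, ep1],
   [em1, em1, ep3, ep1, ep1, ep1, ep1, em1, ep1, ep1, ep1, ep1, ep1, ep1, em1, em1, ep1, ep1, em1, ep1, ep1, ep1, em1, ep1],
   [em1, em1, em1, ep1, ep1, ep1, ep1, em1, ep1, ep1, ep1, ep1, ep1, ep1, ep3, em1, ep1, ep1, em1, ep1, ep1, ep1, em1, ep1],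
   [em1, ep1, ep3, em1, ep1, ep1, ep1, em1, ep1, ep1, ep1, ep1, ep1, ep1, ep1, ep1, em1, em1, ep1, ep1, ep1, em1, em1, ep1],
   [em1, ep1, em1, ep3, ep1, ep1, ep1, em1, ep1, ep1, ep1, ep1, ep1, ep1, ep1, ep1, em1, em1, ep1, ep1, ep1, em1, em1, ep1],
   [em1, ep1, em1, em1, ep1, ep1, ep1, em1, ep1, ep1, ep1, ep1, ep1, ep1, ep1, ep1, em1, ep3, ep1, ep1, ep1, em1, em1, ep1],
   [em1, ep3, ep1, em1, ep1, em1, ep1, em1, ep1, ep1, ep1, ep1, ep1, em1, ep1, ep1, ep1, ep1, ep1, em1, ep1, ep1, em1, ep1],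
   [em1, em1, ep1, ep3, ep1, em1, ep1, em1, ep1, ep1, ep1, ep1, ep1, em1, ep1, ep1, ep1, ep1, ep1, em1, ep1, ep1, em1, ep1],
   [em1, em1, ep1, em1, ep1, ep3, ep1, em1, ep1, ep1, ep1, ep1, ep1, em1, ep1, ep1, ep1, ep1, ep1, em1, ep1, ep1, em1, ep1],
   [ep0, ep0, ep0, ep0, ep2, ep0, ep2, ep2, ep0, ep0, ep0, ep0, ep0, ep2, ep0, ep0, ep2, ep0, ep0, ep2, ep0, ep2, ep2, ep0],
   [em2, ep0, ep0, em2, ep2, ep0, ep2, ep2, ep0, ep0, ep0, ep0, ep0, ep0, ep2, ep0, ep0, ep0, ep0, ep0, ep0, ep0, ep2, ep2],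
   [em2, ep0, ep0, ep2, ep2, ep0, ep2, ep2, ep0, ep0, ep0, ep0, ep0, ep0, em2, ep0, ep0, ep0, ep0, ep0, ep0, ep0, ep2, ep2],
   [ep0, ep2, ep2, ep0, ep2, ep2, ep2, ep2, ep0, ep0, ep0, ep0, ep0, ep0, ep0, ep0, ep0, ep2, ep0, ep0, ep0, ep0, ep2, ep0],
   [ep0, ep0, ep0, ep0, ep0, ep0, ep0, ep0, ep2, ep0, ep0, ep0, ep0, ep2, ep0, ep2, ep2, ep0, ep2, ep2, ep2, ep2, ep0, ep0],
   [em2, em2, ep0, ep0, ep0, ep0, ep0, ep0, ep2, ep0, ep0, ep0, ep0, ep0, ep0, ep0, ep2, ep2, ep0, ep0, ep2, ep2, ep0, ep2],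
   [em2, ep2, ep0, ep0, ep0, ep0, ep0, ep0, ep2, ep0, ep0, ep0, ep0, ep0, ep0, ep0, ep2, em2, ep0, ep0, ep2, ep2, ep0, ep2],
   [em2, ep0, ep0, em2, ep0, ep0, ep0, ep0, ep2, ep0, ep0, ep0, ep0, ep0, ep2, ep2, ep0, ep0, ep2, ep0, ep2, ep0, ep0, ep2],
   [em2, ep0, ep0, ep2, ep0, ep0, ep0, ep0, ep2, ep0, ep0, ep0, ep0, ep0, em2, ep2, ep0, ep0, ep2, ep0, ep2, ep0, ep0, ep2],
   [ep0, ep2, ep0, ep2, ep0, ep0, ep0, ep0, ep2, ep0, ep0, ep0, ep0, ep2, ep2, ep0, ep0, ep2, ep0, ep2, ep2, ep0, ep0, ep0],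
   [em2, ep0, em2, ep0, ep0, ep2, ep0, ep0, ep2, ep0, ep0, ep0, ep0, ep2, ep0, ep0, ep0, ep0, ep0, ep2, ep2, ep0, ep0, ep2],
   [em2, ep0, ep2, ep0, ep0, em2, ep0, ep0, ep2, ep0, ep0, ep0, ep0, ep2, ep0, ep0, ep0, ep0, ep0, ep2, ep2, ep0, ep0, ep2],
   [ep0, ep2, ep2, ep0, ep0, ep2, ep0, ep0, ep2, ep0, ep0, ep0, ep0, ep0, ep0, ep2, ep0, ep2, ep2, ep0, ep2, ep0, ep0, ep0],
   [ep0, ep0, ep2, ep2, ep0, ep2, ep0, ep0, ep2, ep0, ep0, ep0, ep0, ep0, ep2, ep0, ep2, ep0, ep0, ep0, ep2, ep2, ep0, ep0],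
   [em1, ep3, em1, ep1, em1, ep1, em1, ep1, em1, ep1, ep1, ep1, ep1, ep1, em1, ep1, ep1, ep1, ep1, ep1, em1, ep1, ep1, ep1],
   [em1, em1, ep3, ep1, em1, ep1, em1, ep1, em1, ep1, ep1, ep1, ep1, ep1, em1, ep1, ep1, ep1, ep1, ep1, em1, ep1, ep1, ep1],
   [em1, em1, em1, ep1, em1, ep1, em1, ep1, em1, ep1, ep1, ep1, ep1, ep1, ep3, ep1, ep1, ep1, ep1, ep1, em1, ep1, ep1, ep1],
   [em1, ep1, ep1, ep1, ep1, ep3, ep1, em1, em1, ep1, ep1, ep1, ep1, ep1, em1, ep1, ep1, em1, ep1, ep1, em1, ep1, em1, ep1],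
   [em1, ep1, ep1, ep1, ep1, em1, ep1, em1, em1, ep1, ep1, ep1, ep1, ep1, ep3, ep1, ep1, em1, ep1, ep1, em1, ep1, em1, ep1],
   [em1, ep1, ep1, ep1, ep1, em1, ep1, em1, em1, ep1, ep1, ep1, ep1, ep1, em1, ep1, ep1, ep3, ep1, ep1, em1, ep1, em1, ep1],
   [ep0, ep0, ep0, ep0, ep2, ep0, ep2, ep2, ep2, ep0, ep0, ep0, ep0, ep0, ep0, ep2, ep0, ep0, ep2, ep0, ep2, ep0, ep2, ep0],
   [em1, ep3, em1, ep1, ep1, ep1, ep1, ep1, ep1, em1, ep1, ep1, em1, ep1, em1, ep1, em1, ep1, ep1, ep1, ep1, em1, ep1, ep1],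
   [em1, em1, ep3, ep1, ep1, ep1, ep1, ep1, ep1, em1, ep1, ep1, em1, ep1, em1, ep1, em1, ep1, ep1, ep1, ep1, em1, ep1, ep1],
   [em1, em1, em1, ep1, ep1, ep1, ep1, ep1, ep1, em1, ep1, ep1, em1, ep1, ep3, ep1, em1, ep1, ep1, ep1, ep1, em1, ep1, ep1],
   [em1, ep1, ep3, em1, ep1, ep1, ep1, ep1, ep1, em1, ep1, ep1, em1, ep1, ep1, em1, ep1, em1, em1, ep1, ep1, ep1, ep1, ep1],
   [em1, ep1, em1, ep3, ep1, ep1, ep1, ep1, ep1, em1, ep1, ep1, em1, ep1, ep1, em1, ep1, em1, em1, ep1, ep1, ep1, ep1, ep1],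
   [em1, ep1, em1, em1, ep1, ep1, ep1, ep1, ep1, em1, ep1, ep1, em1, ep1, ep1, em1, ep1, ep3, em1, ep1, ep1, ep1, ep1, ep1],
   [em1, ep1, ep1, ep1, ep1, ep3, ep1, ep1, ep1, em1, ep1, ep1, em1, em1, em1, ep1, ep1, em1, ep1, em1, ep1, ep1, ep1, ep1],
   [em1, ep1, ep1, ep1, ep1, em1, ep1, ep1, ep1, em1, ep1, ep1, em1, em1, ep3, ep1, ep1, em1, ep1, em1, ep1, ep1, ep1, ep1],
   [em1, ep1, ep1, ep1, ep1, em1, ep1, ep1, ep1, em1, ep1, ep1, em1, em1, em1, ep1, ep1, ep3, ep1, em1, ep1, ep1, ep1, ep1],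
   [ep0, ep0, ep0, ep0, ep2, ep0, ep2, ep0, ep0, ep2, ep0, ep0, ep2, ep2, ep0, ep2, ep0, ep0, ep2, ep2, ep0, ep0, ep0, ep0],
   [em2, em2, ep0, ep0, ep2, ep0, ep2, ep0, ep0, ep2, ep0, ep0, ep2, ep0, ep0, ep0, ep0, ep2, ep0, ep0, ep0, ep0, ep0, ep2],
   [em2, ep2, ep0, ep0, ep2, ep0, ep2, ep0, ep0, ep2, ep0, ep0, ep2, ep0, ep0, ep0, ep0, em2, ep0, ep0, ep0, ep0, ep0, ep2],
   [ep0, ep0, ep2, ep2, ep2, ep2, ep2, ep0, ep0, ep2, ep0, ep0, ep2, ep0, ep2, ep0, ep0, ep0, ep0, ep0, ep0, ep0, ep0, ep0],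
   [ep0, ep0, ep0, ep0, ep0, ep0, ep0, ep2, ep0, ep2, ep0, ep0, ep2, ep0, ep0, ep2, ep2, ep0, ep2, ep0, ep0, ep2, ep2, ep0],
   [ep0, ep2, ep0, ep2, ep0, ep0, ep0, ep2, ep0, ep2, ep0, ep0, ep2, ep0, ep2, ep0, ep0, ep2, ep0, ep0, ep0, ep0, ep2, ep0],
   [em2, ep0, em2, ep0, ep0, ep2, ep0, ep2, ep0, ep2, ep0, ep0, ep2, ep0, ep0, ep0, ep0, ep0, ep0, ep0, ep0, ep0, ep2, ep2],
   [em2, ep0, ep2, ep0, ep0, em2, ep0, ep2, ep0, ep2, ep0, ep0, ep2, ep0, ep0, ep0, ep0, ep0, ep0, ep0, ep0, ep0, ep2, ep2],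
   [em1, ep3, ep1, em1, ep1, em1, ep1, ep1, em1, em1, ep1, ep1, em1, ep1, ep1, ep1, ep1, ep1, ep1, ep1, em1, ep1, ep1, ep1],
   [em1, em1, ep1, ep3, ep1, em1, ep1, ep1, em1, em1, ep1, ep1, em1, ep1, ep1, ep1, ep1, ep1, ep1, ep1, em1, ep1, ep1, ep1],
   [em1, em1, ep1, em1, ep1, ep3, ep1, ep1, em1, em1, ep1, ep1, em1, ep1, ep1, ep1, ep1, ep1, ep1, ep1, em1, ep1, ep1, ep1],
   [ep0, ep0, ep0, ep0, ep2, ep0, ep2, ep0, ep2, ep2, ep0, ep0, ep2, ep0, ep0, ep0, ep2, ep0, ep0, ep0, ep2, ep2, ep0, ep0],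
   [ep0, ep0, ep0, ep0, ep0, ep0, ep0, ep2, ep2, ep2, ep0, ep0, ep2, ep2, ep0, ep0, ep0, ep0, ep0, ep2, ep2, ep0, ep2, ep0],
   [em1, ep3, em1, ep1, ep1, ep1, ep1, ep1, ep1, ep1, em1, em1, ep1, em1, em1, ep1, ep1, ep1, ep1, em1, ep1, ep1, ep1, ep1],
   [em1, em1, ep3, ep1, ep1, ep1, ep1, ep1, ep1, ep1, em1, em1, ep1, em1, em1, ep1, ep1, ep1, ep1, em1, ep1, ep1, ep1, ep1],
   [em1, em1, em1, ep1, ep1, ep1, ep1, ep1, ep1, ep1, em1, em1, ep1, em1, ep3, ep1, ep1, ep1, ep1, em1, ep1, ep1, ep1, ep1],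
   [em1, ep1, ep1, ep1, ep1, ep3, ep1, ep1, ep1, ep1, em1, em1, ep1, ep1, em1, ep1, em1, em1, ep1, ep1, ep1, em1, ep1, ep1],
   [em1, ep1, ep1, ep1, ep1, em1, ep1, ep1, ep1, ep1, em1, em1, ep1, ep1, ep3, ep1, em1, em1, ep1, ep1, ep1, em1, ep1, ep1],
   [em1, ep1, ep1, ep1, ep1, em1, ep1, ep1, ep1, ep1, em1, em1, ep1, ep1, em1, ep1, em1, ep3, ep1, ep1, ep1, em1, ep1, ep1],
   [em1, ep3, ep1, em1, ep1, em1, ep1, ep1, ep1, ep1, em1, em1, ep1, ep1, ep1, em1, ep1, ep1, em1, ep1, ep1, ep1, ep1, ep1],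
   [em1, em1, ep1, ep3, ep1, em1, ep1, ep1, ep1, ep1, em1, em1, ep1, ep1, ep1, em1, ep1, ep1, em1, ep1, ep1, ep1, ep1, ep1],
   [em1, em1, ep1, em1, ep1, ep3, ep1, ep1, ep1, ep1, em1, em1, ep1, ep1, ep1, em1, ep1, ep1, em1, ep1, ep1, ep1, ep1, ep1],
   [ep0, ep0, ep0, ep0, ep2, ep0, ep2, ep0, ep0, ep0, ep2, ep2, ep0, ep0, ep0, ep2, ep2, ep0, ep2, ep0, ep0, ep2, ep0, ep0],
   [ep0, ep2, ep0, ep2, ep2, ep0, ep2, ep0, ep0, ep0, ep2, ep2, ep0, ep0, ep2, ep0, ep0, ep2, ep0, ep0, ep0, ep0, ep0, ep0],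
   [em2, ep0, em2, ep0, ep2, ep2, ep2, ep0, ep0, ep0, ep2, ep2, ep0, ep0, ep0, ep0, ep0, ep0, ep0, ep0, ep0, ep0, ep0, ep2],
   [em2, ep0, ep2, ep0, ep2, em2, ep2, ep0, ep0, ep0, ep2, ep2, ep0, ep0, ep0, ep0, ep0, ep0, ep0, ep0, ep0, ep0, ep0, ep2],
   [ep0, ep0, ep0, ep0, ep0, ep0, ep0, ep2, ep0, ep0, ep2, ep2, ep0, ep2, ep0, ep2, ep0, ep0, ep2, ep2, ep0, ep0, ep2, ep0],
   [em2, em2, ep0, ep0, ep0, ep0, ep0, ep2, ep0, ep0, ep2, ep2, ep0, ep0, ep0, ep0, ep0, ep2, ep0, ep0, ep0, ep0, ep2, ep2],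
   [em2, ep2, ep0, ep0, ep0, ep0, ep0, ep2, ep0, ep0, ep2, ep2, ep0, ep0, ep0, ep0, ep0, em2, ep0, ep0, ep0, ep0, ep2, ep2],
   [ep0, ep0, ep2, ep2, ep0, ep2, ep0, ep2, ep0, ep0, ep2, ep2, ep0, ep0, ep2, ep0, ep0, ep0, ep0, ep0, ep0, ep0, ep2, ep0],
   [em1, ep1, ep3, em1, ep1, ep1, ep1, ep1, em1, ep1, em1, em1, ep1, ep1, ep1, ep1, ep1, em1, ep1, ep1, em1, ep1, ep1, ep1],
   [em1, ep1, em1, ep3, ep1, ep1, ep1, ep1, em1, ep1, em1, em1, ep1, ep1, ep1, ep1, ep1, em1, ep1, ep1, em1, ep1, ep1, ep1],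
   [em1, ep1, em1, em1, ep1, ep1, ep1, ep1, em1, ep1, em1, em1, ep1, ep1, ep1, ep1, ep1, ep3, ep1, ep1, em1, ep1, ep1, ep1],
   [ep0, ep0, ep0, ep0, ep2, ep0, ep2, ep0, ep2, ep0, ep2, ep2, ep0, ep2, ep0, ep0, ep0, ep0, ep0, ep2, ep2, ep0, ep0, ep0],
   [ep0, ep0, ep0, ep0, ep0, ep0, ep0, ep2, ep2, ep0, ep2, ep2, ep0, ep0, ep0, ep0, ep2, ep0, ep0, ep0, ep2, ep2, ep2, ep0],
   [ep0, ep0, ep0, ep0, ep0, ep0, ep0, ep0, ep0, ep2, ep2, ep2, ep2, ep2, ep0, ep0, ep2, ep0, ep0, ep2, ep0, ep2, ep0, ep0],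
   [em2, ep0, ep0, em2, ep0, ep0, ep0, ep0, ep0, ep2, ep2, ep2, ep2, ep0, ep2, ep0, ep0, ep0, ep0, ep0, ep0, ep0, ep0, ep2],
   [em2, ep0, ep0, ep2, ep0, ep0, ep0, ep0, ep0, ep2, ep2, ep2, ep2, ep0, em2, ep0, ep0, ep0, ep0, ep0, ep0, ep0, ep0, ep2],
   [ep0, ep2, ep2, ep0, ep0, ep2, ep0, ep0, ep0, ep2, ep2, ep2, ep2, ep0, ep0, ep0, ep0, ep2, ep0, ep0, ep0, ep0, ep0, ep0],
   [ep0, ep0, ep0, ep0, ep2, ep0, ep2, ep2, ep0, ep2, ep2, ep2, ep2, ep0, ep0, ep0, ep0, ep0, ep0, ep0, ep0, ep0, ep2, ep0],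
   [ep0, ep0, ep0, ep0, ep0, ep0, ep0, ep0, ep2, ep2, ep2, ep2, ep2, ep0, ep0, ep2, ep0, ep0, ep2, ep0, ep2, ep0, ep0, ep0]]

/-- The partition of eight symbols attached to each fixed point. -/
def sideMask : List ℕ := [43, 195, 23, 165, 113, 135, 153, 77, 29, 177, 141, 225, 71, 53, 147, 89, 149, 51, 45, 169, 15, 197, 163, 105, 27, 39, 75, 57, 45, 139, 149, 27, 209, 163, 71, 29, 201, 165, 43, 23, 195, 113, 165, 83, 77, 153, 201, 101, 75, 39, 85, 197, 99, 169, 147, 57, 85, 39, 51, 149, 139, 15, 169, 99, 89, 101, 177, 23, 225, 153, 135, 83, 209, 27, 105, 141, 53, 85, 57, 75, 99, 197, 15, 105, 163, 209, 53, 77, 83, 135, 141, 177, 101, 195, 139, 45, 51, 225, 89, 147, 201, 29, 113, 43, 71]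

/-- The action of the generators on the fixed points. -/
def tabs : List (List ℕ) := [[50, 69, 96, 68, 79, 66, 70, 95, 75, 83, 20, 100, 99, 52, 27, 3, 4, 0, 101, 39, 7, 32, 53, 13, 21, 33, 47, 16, 8, 12, 102, 51, 15, 19, 54, 90, 57, 97, 77, 17, 6, 48, 11, 31, 18, 5, 25, 40, 65, 84, 71, 85, 94, 67, 55, 30, 43, 22, 38, 41, 104, 44, 2, 29, 37, 93, 74, 58, 36, 89, 91, 73, 64, 81, 76, 61, 63, 88, 59, 92, 60, 72, 87, 86, 62, 98, 80, 28, 24, 9, 82, 23, 1, 45, 34, 35, 103, 46, 42, 78, 49, 10, 26, 56, 14], [0, 41, 42, 6, 7, 47, 39, 40, 5, 46, 12, 10, 11, 15, 13, 14, 25, 26, 27, 53, 51, 52, 29, 28, 30, 73, 72, 74, 55, 56, 57, 59, 58, 60, 68, 70, 71, 69, 38, 3, 4, 44, 45, 9, 1, 2, 43, 8, 32, 31, 33, 63, 61, 62, 76, 23, 22, 24, 48, 49, 50, 21, 19, 20, 54, 35, 36, 37, 75, 67, 65, 66, 17, 16, 18, 34, 64, 84, 83, 85, 82, 80, 81, 95, 94, 96, 98, 93, 91, 92, 104, 100, 101, 102, 77, 78, 79,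 90, 99, 86, 88, 89, 87, 103, 97], [0, 92, 91, 70, 71, 102, 101, 100, 69, 93, 15, 14, 11, 12, 13, 10, 27, 26, 25, 84, 85, 83, 60, 58, 59, 82, 81, 80, 57, 56, 55, 30, 28, 29, 68, 6, 7, 5, 103, 66, 65, 88, 89, 37, 36, 35, 87, 67, 21, 20, 19, 23, 24, 22, 86, 63, 62, 61, 79, 78, 77, 32, 33, 31, 90, 2, 1, 9, 99, 8, 4, 3, 18, 16, 17, 64, 34, 53, 52, 51, 73, 74, 72, 96, 94, 95, 104, 46, 42, 41, 98, 40, 39, 47, 50, 49, 48, 54, 75, 76, 44, 45, 43, 38, 97]]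

/-- Their actions on the eight symbols. -/
def rhos : List (List ℕ) := [[2, 6, 3, 0, 7, 4, 5, 1], [3, 1, 4, 5, 6, 0, 2, 7], [1, 3, 2, 5, 6, 0, 4, 7]]

/-- Words for the three-cycles. -/
def words : List (List ℕ) := [[1, 1, 0, 0, 1, 2, 0], [0, 0, 1, 0, 2, 1, 0, 0, 2, 1, 1], [0, 2, 1, 0, 0, 0, 0, 2], [0, 1, 0, 2, 1, 0, 0, 1, 1, 2, 0], [1, 0, 0, 1, 2, 1, 0, 1, 2], [0, 0, 0, 0, 2, 0, 2, 1]]

end Cfsg.Agent.Leech.McLInvol
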