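import Cfsg.Agent.Lib.Leech.McLInvol.Points

/-!
# Elements of the centraliser acting as the alternating group of degree 8

* `gen`, `rho` : three elements and their permutations of eight symbols
* `goodGroup` : pairs permuting the partitions attached to the fixed points
* `eq_one_of_good` : the permutation is determined by the element
-/

set_option autoImplicit false

open Cfsg
open scoped Pointwise Matrix

namespace Cfsg.Agent.Leech.McLInvol

open Cfsg.Agent.Golay MulAction

theorem gens_matOK (k : Fin 3) : matOKB (mats.getD k []) (matsT.getD k []) (cols.getD k [])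
    (colsT.getD k []) (imgs.getD k []) (imgsT.getD k []) = true := by
  revert k
  decide +kernel

/-- The matrix of a generator. -/
def genM (k : Fin 3) : Matrix GolayPt GolayPt ℤ := toMat (mats.getD k [])

theorem genM_ok (k : Fin 3) : MatOK (genM k) := (matOK_of_lists (gens_matOK k)).1

/-- A generator. -/
noncomputable def gen (k : Fin 3) : Co0 := matEl (genM k) (genM_ok k)

theorem gen_smul (k : Fin 3) {x y : List ℤ} (hx : smallL x = true) (hy : smallL y = true)
    (he : dotL (cols.getD k []) x = 8 * pack y) {v u : leechLattice}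
    (hv : (v : GolayPt → ℤ) = vOf x) (hu : (u : GolayPt → ℤ) = vOf y) : gen k • v = u := by
  obtain ⟨hOK, hP, hL, hb⟩ := matOK_of_lists (gens_matOK k)
  exact matEl_smul_of_pack hOK (fun r hr => smallL_spec (List.all_eq_true.1 hb r hr)) hL
    (smallL_spec hx) (smallL_spec hy) (hP ▸ he) hv hu

/-- The list of `baseF`. -/
def listF : List ℤ := listOf fun j => bif j == 23 then 5 else 1

/-- The list of `baseU`. -/
def listU : List ℤ := listOf fun j => bif (j == 23 || j == 0) then 4 else 0

theorem bases_ok : ((baseF : GolayPt → ℤ) = vOf listF ∧ (baseU : GolayPt → ℤ) = vOf listU) ∧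
    smallL listF = true ∧ smallL listU = true ∧ ∀ k : Fin 3,
      dotL (cols.getD k []) listF = 8 * pack listF ∧ dotL (cols.getD k []) listU = 8 * pack listU := by
  decide +kernel

theorem gen_mem (k : Fin 3) : gen k ∈ mclGroup :=
  ⟨mem_stabilizer_iff.2 (gen_smul k bases_ok.2.1 bases_ok.2.1 (bases_ok.2.2.2 k).1
      bases_ok.1.1 bases_ok.1.1),
    mem_stabilizer_iff.2 (gen_smul k bases_ok.2.2.1 bases_ok.2.2.1 (bases_ok.2.2.2 k).2
      bases_ok.1.2 bases_ok.1.2)⟩

theorem gens_equiv : ∀ k : Fin 3, ((List.range 24).all fun i => (List.range 24).all fun j =>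
    ((mats.getD k []).getD (fn invCode i) []).getD (fn invCode j) 0 ==
      ((mats.getD k []).getD i []).getD j 0) = true := by decide +kernel

theorem genM_sigma (k : Fin 3) (a b : GolayPt) : genM k (sigma a) (sigma b) = genM k a b := by
  have h := List.all_eq_true.1 (List.all_eq_true.1 (gens_equiv k) (idx a)
    (List.mem_range.2 (idx_lt a))) (idx b) (List.mem_range.2 (idx_lt b))
  rw [beq_iff_eq, ← idx_sigma, ← idx_sigma] at h
  exact h

theorem gen_comm (k : Fin 3) : gen k * (tEl : Co0) = (tEl : Co0) * gen k := by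
  refine co0_ext fun v => Subtype.ext (funext fun i => ?_)
  rw [mul_smul, mul_smul, coe_tEl, vec_permEl]
  have spec : ∀ w : leechLattice, genM k *ᵥ (w : GolayPt → ℤ) =
      (8 : ℤ) • ((gen k • w : leechLattice) : GolayPt → ℤ) := matImage_spec (genM_ok k).2.2.1
  have h1 := congrFun (spec (permEl sigma sigma_mem • v)) i
  have h2 := congrFun (spec v) (sigma.symm i)
  have key : (genM k *ᵥ ((permEl sigma sigma_mem • v : leechLattice) : GolayPt → ℤ)) i =
      (genM k *ᵥ (v : GolayPt → ℤ)) (sigma.symm i) := by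
    simp only [Matrix.mulVec, dotProduct, vec_permEl]
    rw [← Equiv.sum_comp sigma]
    refine Finset.sum_congr rfl fun j _ => ?_
    rw [Equiv.symm_apply_apply, ← genM_sigma k (sigma.symm i) j, Equiv.apply_symm_apply]
  rw [h1, h2] at key
  simp only [Pi.smul_apply, smul_eq_mul] at key
  omega

theorem gen_mem_tCentralizer (k : Fin 3) : gen k ∈ tCentralizer :=
  ⟨gen_mem k, Subgroup.mem_centralizer_singleton_iff.2 (gen_comm k)⟩

theorem tEl_mem_tCentralizer : (tEl : Co0) ∈ tCentralizer :=
  ⟨tEl.2, Subgroup.mem_centralizer_singleton_iff.2 rfl⟩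

/-! ### The eight symbols -/

/-- The image of a symbol. -/
def rhoFun (k : Fin 3) (i : Fin 8) : Fin 8 :=
  ⟨(rhos.getD k []).getD i 0 % 8, Nat.mod_lt _ (by norm_num)⟩

/-- The preimage of a symbol. -/
def rhoInv (k : Fin 3) (i : Fin 8) : Fin 8 :=
  ⟨(rhos.getD k []).idxOf (i : ℕ) % 8, Nat.mod_lt _ (by norm_num)⟩

theorem rho_inverse : ∀ (k : Fin 3) (i : Fin 8),
    rhoInv k (rhoFun k i) = i ∧ rhoFun k (rhoInv k i) = i := by decide +kernel

/-- The permutation of a generator. -/
def rho (k : Fin 3) : Equiv.Perm (Fin 8) :=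
  ⟨rhoFun k, rhoInv k, fun i => (rho_inverse k i).1, fun i => (rho_inverse k i).2⟩

/-- The two symbols lie on the same side of the partition. -/
def sep (i : Fin 105) (a b : Fin 8) : Bool :=
  (sideMask.getD i 0).testBit a == (sideMask.getD i 0).testBit b

/-- The element permutes the partitions as the permutation does. -/
def Good (x : Co0 × Equiv.Perm (Fin 8)) : Prop :=
  ∀ i, ∃ j, x.1 • V i = V j ∧ ∀ a b, sep j (x.2 a) (x.2 b) = sep i a b

/-- The pairs. -/
def goodMonoid : Submonoid (Co0 × Equiv.Perm (Fin 8)) where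
  carrier := {x | x.1 ∈ tCentralizer ∧ Good x}
  one_mem' := ⟨one_mem _, fun i => ⟨i, one_smul _ _, fun _ _ => rfl⟩⟩
  mul_mem' := by
    rintro x y ⟨hx, hx'⟩ ⟨hy, hy'⟩
    refine ⟨mul_mem hx hy, fun i => ?_⟩
    obtain ⟨j, hj, hj'⟩ := hy' i
    obtain ⟨l, hl, hl'⟩ := hx' j
    exact ⟨l, by rw [Prod.fst_mul, mul_smul, hj, hl],
      fun a b => (hl' (y.2 a) (y.2 b)).trans (hj' a b)⟩

/-- The pairs form a group. -/
def goodGroup : Subgroup (Co0 × Equiv.Perm (Fin 8)) :=
  { goodMonoid with
    inv_mem' := fun {x} hx => by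
      have e : x⁻¹ = x ^ (orderOf x - 1) := inv_eq_of_mul_eq_one_right (by
        rw [← pow_succ', Nat.sub_add_cancel (orderOf_pos x), pow_orderOf_eq_one])
      show x⁻¹ ∈ goodMonoid
      rw [e]
      exact pow_mem (show x ∈ goodMonoid from hx) _ }

theorem tabs_ok : ∀ (k : Fin 3) (i : Fin 105), (tabs.getD k []).getD i 0 < 105 ∧
    dotL (cols.getD k []) (fixL.getD i []) =
      8 * pack (fixL.getD ((tabs.getD k []).getD i 0) []) := by decide +kernel

theorem tabs_sep : ∀ (k : Fin 3) (i : Fin 105) (a b : Fin 8),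
    ((sideMask.getD ((tabs.getD k []).getD i 0) 0).testBit (rhoFun k a) ==
      (sideMask.getD ((tabs.getD k []).getD i 0) 0).testBit (rhoFun k b)) = sep i a b := by
  decide +kernel

theorem gen_good (k : Fin 3) : (gen k, rho k) ∈ goodGroup := by
  refine ⟨gen_mem_tCentralizer k, fun i => ⟨⟨_, (tabs_ok k i).1⟩, ?_, tabs_sep k i⟩⟩
  exact gen_smul k (fixL_spec i).1 (fixL_spec ⟨_, (tabs_ok k i).1⟩).1 (tabs_ok k i).2 rfl rfl

theorem tEl_good : ((tEl : Co0), (1 : Equiv.Perm (Fin 8))) ∈ goodGroup :=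
  ⟨tEl_mem_tCentralizer, fun i => ⟨i, smul_V i, fun _ _ => rfl⟩⟩

theorem profile_injective : ∀ a b c d : Fin 8, a ≠ b →
    ((List.finRange 105).all fun i => sep i c d == sep i a b) = true →
      (a = c ∧ b = d) ∨ (a = d ∧ b = c) := by decide +kernel

/-- The permutation is determined by the element. -/
theorem eq_one_of_good {ρ : Equiv.Perm (Fin 8)} (h : ((1 : Co0), ρ) ∈ goodGroup) : ρ = 1 := by
  have hs : ∀ i a b, sep i (ρ a) (ρ b) = sep i a b := by
    intro i a b
    obtain ⟨j, hj, hj'⟩ := h.2 i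
    obtain rfl := V_injective ((one_smul Co0 (V i)).symm.trans hj)
    exact hj' a b
  refine Equiv.ext fun a => ?_
  have key : ∀ b, a ≠ b → ρ a = a ∨ ρ a = b := fun b hab => by
    rcases profile_injective a b (ρ a) (ρ b) hab
      (List.all_eq_true.2 fun i _ => beq_iff_eq.2 (hs i a b)) with h | h
    · exact Or.inl h.1.symm
    · exact Or.inr h.2.symm
  have two : ∀ a : Fin 8, ∃ b c, a ≠ b ∧ a ≠ c ∧ b ≠ c := by decide
  obtain ⟨b, c, hb, hc, hbc⟩ := two a
  rcases key b hb with h | h
  · exact h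
  · exact (key c hc).elim id fun h' => absurd (h.symm.trans h') hbc

theorem sign_rho : ∀ k : Fin 3, Equiv.Perm.sign (rho k) = 1 := by decide +kernel

end Cfsg.Agent.Leech.McLInvol
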