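import Cfsg.Agent.Lib.Leech.McLInvol.Data
import Cfsg.Agent.Lib.Leech.StabM22
import Cfsg.Agent.Lib.GolayInvol.Basic
import Cfsg.Agent.S2133

/-!
# Involutions of M22

* `sigma`, `four` : an involution fixing an octad and an element squaring to it
* `exists_conj_sigma` : every involution of the stabiliser of two points is conjugate to it there
* `natCard_sigmaStab` : its centraliser there has order at most 384
-/

set_option autoImplicit false

open Cfsg
open scoped Pointwise

namespace Cfsg.Agent.Leech.McLInvol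

open Cfsg.Agent.Golay MulAction

/-- The involution. -/
noncomputable def sigma : Equiv.Perm GolayPt := toPerm invCode

/-- An element squaring to it. -/
noncomputable def four : Equiv.Perm GolayPt := toPerm fourCode

theorem codes_ok : (isAut invCode && isAut fourCode &&
    (fn invCode 23 == 23) && (fn invCode 0 == 0) && (fn fourCode 23 == 23) && (fn fourCode 0 == 0) &&
    (List.range 24).all fun i => fn invCode (fn invCode i) == i &&
      fn fourCode (fn fourCode i) == fn invCode i) = true := by decide +kernel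

theorem inv_valid : validPerm invCode = true ∧ validPerm fourCode = true := by
  have h := codes_ok
  simp only [Bool.and_eq_true] at h
  exact ⟨validPerm_of_isAut h.1.1.1.1.1.1, validPerm_of_isAut h.1.1.1.1.1.2⟩

theorem sigma_mem : sigma ∈ M24 := by
  have h := codes_ok
  simp only [Bool.and_eq_true] at h
  exact toPerm_mem_M24 h.1.1.1.1.1.1

theorem four_mem : four ∈ M24 := by
  have h := codes_ok
  simp only [Bool.and_eq_true] at h
  exact toPerm_mem_M24 h.1.1.1.1.1.2

theorem idx_sigma (p : GolayPt) : idx (sigma p) = fn invCode (idx p) := idx_toPerm inv_valid.1 p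

theorem idx_four (p : GolayPt) : idx (four p) = fn fourCode (idx p) := idx_toPerm inv_valid.2 p

theorem idx_marks : idx (none : GolayPt) = 23 ∧ idx pO = 0 := by decide

theorem marks_fixed : sigma none = none ∧ sigma pO = pO ∧ four none = none ∧ four pO = pO := by
  have h := codes_ok
  simp only [Bool.and_eq_true, beq_iff_eq] at h
  refine ⟨idx_injective ?_, idx_injective ?_, idx_injective ?_, idx_injective ?_⟩ <;>
    first
    | rw [idx_sigma]
    | rw [idx_four]
  all_goals simp only [idx_marks, h.1.1.1.1.2, h.1.1.1.2, h.1.1.2, h.1.2]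

theorem four_sq : four * four = sigma := by
  refine Equiv.ext fun p => idx_injective ?_
  have h := codes_ok
  simp only [Bool.and_eq_true, beq_iff_eq, List.all_eq_true, List.mem_range] at h
  rw [Equiv.Perm.mul_apply, idx_four, idx_four, idx_sigma, (h.2 _ (idx_lt p)).2]

theorem sigma_sq : sigma * sigma = 1 := by
  refine Equiv.ext fun p => idx_injective ?_
  have h := codes_ok
  simp only [Bool.and_eq_true, beq_iff_eq, List.all_eq_true, List.mem_range] at h
  rw [Equiv.Perm.mul_apply, idx_sigma, idx_sigma, (h.2 _ (idx_lt p)).1]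
  rfl

theorem sigma_ne_one : sigma ≠ 1 := fun h => by
  have := idx_sigma (pt 4)
  rw [h, Equiv.Perm.one_apply, idx_pt (by norm_num : 4 < 24)] at this
  revert this
  decide +kernel

theorem orderOf_sigma : orderOf sigma = 2 :=
  orderOf_eq_prime (by rw [pow_two]; exact sigma_sq) sigma_ne_one

theorem movers_ok : ((toNone ++ toZero).all fun c => isAut c &&
    (List.range 24).all fun i => fn c (fn invCode i) == fn invCode (fn c i)) = true := by
  decide +kernel

theorem toNone_cover : ((List.range 24).all fun i =>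
    fn invCode i != i || toNone.any fun c => fn c i == 23) = true := by decide +kernel

theorem toZero_cover : ((List.range 24).all fun i =>
    fn invCode i != i || i == 23 || toZero.any fun c => fn c i == 0 && fn c 23 == 23) = true := by
  decide +kernel

theorem mover_spec {c : ℕ} (hc : c ∈ toNone ++ toZero) :
    toPerm c ∈ M24 ∧ Commute (toPerm c) sigma ∧ ∀ p, idx (toPerm c p) = fn c (idx p) := by
  have h := List.all_eq_true.1 movers_ok c hc
  simp only [Bool.and_eq_true, beq_iff_eq, List.all_eq_true, List.mem_range] at h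
  have hv := validPerm_of_isAut h.1
  refine ⟨toPerm_mem_M24 h.1, Equiv.ext fun p => idx_injective ?_, idx_toPerm hv⟩
  rw [Equiv.Perm.mul_apply, Equiv.Perm.mul_apply, idx_toPerm hv, idx_sigma, idx_sigma,
    idx_toPerm hv, h.2 _ (idx_lt p)]

theorem fn_eq_of_fixed {p : GolayPt} (h : sigma p = p) : fn invCode (idx p) = idx p := by
  rw [← idx_sigma, h]

/-- The centraliser moves any two fixed points to the marked ones. -/
theorem exists_mover {a b : GolayPt} (ha : sigma a = a) (hb : sigma b = b) (hab : a ≠ b) :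
    ∃ w ∈ M24, Commute w sigma ∧ w none = a ∧ w pO = b := by
  have h1 := List.all_eq_true.1 toNone_cover (idx a) (List.mem_range.2 (idx_lt a))
  simp only [fn_eq_of_fixed ha, bne_self_eq_false, Bool.false_or, List.any_eq_true, beq_iff_eq] at h1
  obtain ⟨c, hc, hca⟩ := h1
  obtain ⟨c1, c2, c3⟩ := mover_spec (List.mem_append_left _ hc)
  have hca' : toPerm c a = none := idx_injective (by rw [c3, hca, idx_marks.1])
  have hb' : sigma (toPerm c b) = toPerm c b := by
    rw [← Equiv.Perm.mul_apply, ← c2.eq, Equiv.Perm.mul_apply, hb]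
  have hne : idx (toPerm c b) ≠ 23 := fun e =>
    hab ((toPerm c).injective (hca'.trans (idx_injective (e.trans idx_marks.1.symm)).symm))
  have h2 := List.all_eq_true.1 toZero_cover _ (List.mem_range.2 (idx_lt (toPerm c b)))
  simp only [fn_eq_of_fixed hb', bne_self_eq_false, Bool.false_or, beq_eq_false_iff_ne.2 hne,
    List.any_eq_true, Bool.and_eq_true, beq_iff_eq] at h2
  obtain ⟨d, hd, hd0, hd23⟩ := h2
  obtain ⟨d1, d2, d3⟩ := mover_spec (List.mem_append_right _ hd)
  refine ⟨(toPerm d * toPerm c)⁻¹, inv_mem (mul_mem d1 c1), (d2.mul_left c2).inv_left, ?_, ?_⟩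
  · refine (Equiv.Perm.inv_eq_iff_eq).2 ?_
    rw [Equiv.Perm.mul_apply, hca']
    exact idx_injective (by rw [d3, idx_marks.1, hd23])
  · refine (Equiv.Perm.inv_eq_iff_eq).2 ?_
    rw [Equiv.Perm.mul_apply]
    exact idx_injective (by rw [d3, hd0, idx_marks.2])

/-- Involutions of the stabiliser of two points are conjugate there. -/
theorem exists_conj_sigma {g : Equiv.Perm GolayPt} (hg : g ∈ pointStab2) (h2 : orderOf g = 2) :
    ∃ k ∈ pointStab2, k * sigma * k⁻¹ = g := by
  have g1 : g none = none := mem_stabilizer_iff.1 hg.1.2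
  have g2 : g pO = pO := mem_stabilizer_iff.1 hg.2
  have key : ∀ h : Equiv.Perm GolayPt, h ∈ M24 → orderOf h = 2 → h none = none →
      ∃ k ∈ M24, k * GolayInvol.repFix * k⁻¹ = h := by
    intro h hh h2 h0
    obtain ⟨k, hk, e | e⟩ := GolayInvol.involution_cases hh h2
    · exact ⟨k, hk, e⟩
    · refine absurd ?_ (GolayInvol.repFree_ne (k⁻¹ none))
      rw [← e, Equiv.Perm.mul_apply, Equiv.Perm.mul_apply] at h0
      exact (Equiv.Perm.eq_inv_iff_eq).2 h0
  obtain ⟨k, hk, ek⟩ := key g hg.1.1 h2 g1
  obtain ⟨k1, hk1, ek1⟩ := key sigma sigma_mem orderOf_sigma marks_fixed.1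
  set m := k * k1⁻¹ with hm
  have hmg : m * sigma * m⁻¹ = g := by rw [hm, ← ek1, ← ek]; group
  have hfix : ∀ p, g p = p → sigma (m⁻¹ p) = m⁻¹ p := by
    intro p hp
    rw [← hmg, Equiv.Perm.mul_apply, Equiv.Perm.mul_apply] at hp
    exact (Equiv.Perm.eq_inv_iff_eq).2 hp
  obtain ⟨w, hw, hwc, w1, w2⟩ := exists_mover (hfix _ g1) (hfix _ g2)
    fun e => none_ne_pO ((m⁻¹).injective e)
  refine ⟨m * w, ⟨⟨M24.mul_mem (M24.mul_mem hk (M24.inv_mem hk1)) hw, mem_stabilizer_iff.2 ?_⟩,
    mem_stabilizer_iff.2 ?_⟩, ?_⟩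
  · show m (w none) = none
    rw [w1]; simp
  · show m (w pO) = pO
    rw [w2]; simp
  · rw [← hmg, mul_inv_rev, mul_assoc m w, hwc.eq]; group

/-- The centraliser in the stabiliser of two points. -/
def sigmaStab : Subgroup (Equiv.Perm GolayPt) := pointStab2 ⊓ Subgroup.centralizer {sigma}

theorem natCard_sigmaStab : Nat.card sigmaStab ≤ 384 := by
  classical
  let P := (S2133.o).offDiag
  have hP : P.card = 56 := by decide +kernel
  have hmove : ∀ p : P, ∃ w ∈ M24, Commute w sigma ∧ w none = p.1.1 ∧ w pO = p.1.2 := by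
    rintro ⟨⟨a, b⟩, h⟩
    obtain ⟨ha, hb, hab⟩ := Finset.mem_offDiag.1 h
    exact exists_mover (S2133.mem_o.1 ha) (S2133.mem_o.1 hb) hab
  choose w hw hwc w1 w2 using hmove
  let F : P × sigmaStab → ↥S2133.Cz := fun x =>
    ⟨⟨w x.1 * x.2.1, mul_mem (hw x.1) x.2.2.1.1.1⟩, Subgroup.mem_centralizer_singleton_iff.2
      (Subtype.ext ((hwc x.1).mul_left (Subgroup.mem_centralizer_singleton_iff.1 x.2.2.2)).eq)⟩
  have hF : Function.Injective F := by
    intro x y h
    have e : w x.1 * x.2.1 = w y.1 * y.2.1 := congrArg (fun z : ↥S2133.Cz => z.1.1) h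
    have ea := Equiv.Perm.ext_iff.1 e none
    have eb := Equiv.Perm.ext_iff.1 e pO
    simp only [Equiv.Perm.mul_apply] at ea
    simp only [Equiv.Perm.mul_apply, show x.2.1 pO = pO from mem_stabilizer_iff.1 x.2.2.1.2,
      show y.2.1 pO = pO from mem_stabilizer_iff.1 y.2.2.1.2] at eb
    rw [show x.2.1 none = none from mem_stabilizer_iff.1 x.2.2.1.1.2,
      show y.2.1 none = none from mem_stabilizer_iff.1 y.2.2.1.1.2, w1, w1] at ea
    rw [w2, w2] at eb
    have hxy : x.1 = y.1 := Subtype.ext (Prod.ext ea eb)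
    rw [hxy, mul_left_cancel_iff] at e
    exact Prod.ext hxy (Subtype.ext e)
  let zc : ↥S2133.Cz :=
    ⟨S2133.z0, Subgroup.mem_centralizer_iff.mpr fun h hh => by rw [hh]⟩
  have hs : (S2133.toSL zc : Matrix (Fin 5) (Fin 5) (ZMod 2)) = Matrix.transvection 0 1 1 :=
    S2133.mat_z
  let φ : ↥S2133.Cz → ↥(Subgroup.centralizer {S2133.toSL zc}) := fun g =>
    ⟨S2133.toSL g, Subgroup.mem_centralizer_singleton_iff.mpr (Subtype.ext (by
      show S2133.mat g * S2133.mat zc = S2133.mat zc * S2133.mat g
      rw [← S2133.mat_mul, ← S2133.mat_mul]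
      congr 1
      exact Subtype.ext (Subgroup.mem_centralizer_iff.mp g.2 S2133.z0 rfl).symm))⟩
  have hC := (Nat.card_le_card_of_injective φ
    fun g h e => S2133.toSL_injective (congrArg Subtype.val e)).trans (S2133.card_target _ hs)
  have h := (Nat.card_le_card_of_injective F hF).trans hC
  rw [Nat.card_prod, Nat.card_eq_finsetCard, hP] at h
  omega

end Cfsg.Agent.Leech.McLInvol
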