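import Cfsg.Agent.Lib.Leech.McLInvol.M22
import Cfsg.Agent.Lib.Leech.McLFusion
import Cfsg.Agent.Lib.Leech.MatEl

/-!
# The fixed points of an involution of the McLaughlin group

* `tEl`, `xEl` : the involution and an element squaring to it
* `isConj_tEl` : a single class of involutions
* `exists_vec_of_fixed` : the fixed points are listed in `fixL`
* `natCard_tCentralizer` : the centraliser has order at most 40320
-/

set_option autoImplicit false

open Cfsg
open scoped Pointwise

namespace Cfsg.Agent.Leech.McLInvol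

open Cfsg.Agent.Golay MulAction

theorem sigma_mem_pointStab2 : sigma ∈ pointStab2 :=
  ⟨⟨sigma_mem, mem_stabilizer_iff.2 marks_fixed.1⟩, mem_stabilizer_iff.2 marks_fixed.2.1⟩

theorem four_mem_pointStab2 : four ∈ pointStab2 :=
  ⟨⟨four_mem, mem_stabilizer_iff.2 marks_fixed.2.2.1⟩, mem_stabilizer_iff.2 marks_fixed.2.2.2⟩

/-- The point stabiliser. -/
noncomputable def emb : pointStab2 →* mclGroup :=
  (Subgroup.inclusion (inf_le_left : stab3 ≤ mclGroup)).comp stab3Equiv.toMonoidHom

theorem emb_injective : Function.Injective emb := mclM22_injective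

theorem mem_range_emb {g : mclGroup} : g ∈ emb.range ↔ (g : Co0) • baseU' = baseU' :=
  mem_range_mclM22

/-- The involution in the group. -/
noncomputable def tEl : mclGroup := emb ⟨sigma, sigma_mem_pointStab2⟩

/-- The element of order four. -/
noncomputable def xEl : mclGroup := emb ⟨four, four_mem_pointStab2⟩

theorem coe_tEl : (tEl : Co0) = permEl sigma sigma_mem := rfl

theorem orderOf_tEl : orderOf tEl = 2 := by
  refine orderOf_eq_prime ?_ fun h => sigma_ne_one ?_
  · rw [pow_two, tEl, ← map_mul]
    exact (congrArg _ (Subtype.ext sigma_sq)).trans (map_one emb)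
  · exact congrArg Subtype.val (emb_injective (h.trans (map_one emb).symm))

theorem xEl_sq : xEl * xEl = tEl := by
  rw [xEl, ← map_mul]
  exact congrArg _ (Subtype.ext four_sq)

/-- An involution fixes one of the 2025 points. -/
theorem exists_fixed {g : mclGroup} (hg : orderOf g = 2) :
    ∃ y ∈ mclPts, (g : Co0) • y = y := by
  have : Fact (Nat.Prime 2) := ⟨Nat.prime_two⟩
  have hmaps : ∀ (a : mclGroup), ∀ y ∈ mclPts, (a : Co0) • y ∈ mclPts := by
    intro a y hy
    rw [← mclGroup_orbit] at hy ⊢
    obtain ⟨b, hb, rfl⟩ := hy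
    exact ⟨(a : Co0) * b, mul_mem a.2 hb, mul_smul _ _ _⟩
  have hgg : ∀ y : leechLattice, (g : Co0) • (g : Co0) • y = y := fun y => by
    rw [← mul_smul, ← Subgroup.coe_mul, ← pow_two, ← hg, pow_orderOf_eq_one, Subgroup.coe_one,
      one_smul]
  let f : Equiv.Perm mclPts :=
    { toFun := fun y => ⟨(g : Co0) • y.1, hmaps g _ y.2⟩
      invFun := fun y => ⟨(g : Co0) • y.1, hmaps g _ y.2⟩
      left_inv := fun y => Subtype.ext (hgg _)
      right_inv := fun y => Subtype.ext (hgg _) }
  have : Finite mclPts := (Set.finite_of_ncard_ne_zero (by rw [ncard_mclPts]; norm_num)).to_subtype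
  have := Fintype.ofFinite mclPts
  have hodd : ¬ 2 ∣ Fintype.card mclPts := by
    rw [← Nat.card_eq_fintype_card, Nat.card_coe_set_eq, ncard_mclPts]; norm_num
  obtain ⟨y, hy⟩ := Equiv.Perm.exists_fixed_point_of_prime (p := 2) (n := 1) hodd
    (σ := f) (Equiv.ext fun y => Subtype.ext (hgg _))
  exact ⟨y.1, y.2, congrArg Subtype.val hy⟩

/-- There is a single class of involutions. -/
theorem isConj_tEl {g : mclGroup} (hg : orderOf g = 2) : IsConj tEl g := by
  obtain ⟨y, hy, hgy⟩ := exists_fixed hg
  obtain ⟨a, ha, rfl⟩ : y ∈ {y | ∃ a ∈ mclGroup, a • baseU' = y} := mclGroup_orbit ▸ hy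
  let b : mclGroup := ⟨a, ha⟩
  have hm : b⁻¹ * g * b ∈ emb.range := by
    rw [mem_range_emb]
    show (a⁻¹ * (g : Co0) * a) • baseU' = baseU'
    rw [mul_smul, mul_smul, hgy, inv_smul_smul]
  obtain ⟨x, hx⟩ := hm
  have hx2 : orderOf x.1 = 2 := by
    rw [Subgroup.orderOf_coe x, ← orderOf_injective emb emb_injective x, hx,
      orderOf_eq_prime_iff, ← hg]
    refine ⟨?_, fun h => ?_⟩
    · rw [show b⁻¹ * g * b = MulAut.conj b⁻¹ g by simp, ← map_pow, pow_orderOf_eq_one, map_one]
    · have : g = 1 := by
        rw [show g = b * (b⁻¹ * g * b) * b⁻¹ by group, h]; group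
      rw [this, orderOf_one] at hg
      omega
  obtain ⟨k, hk, e⟩ := exists_conj_sigma x.2 hx2
  refine isConj_iff.2 ⟨b * emb ⟨k, hk⟩, ?_⟩
  have e' : emb ⟨k, hk⟩ * tEl * (emb ⟨k, hk⟩)⁻¹ =
      b⁻¹ * g * b := by
    rw [← hx, tEl, ← map_mul, ← map_inv, ← map_mul]
    exact congrArg _ (Subtype.ext e)
  calc b * emb ⟨k, hk⟩ * tEl * (b * emb ⟨k, hk⟩)⁻¹
      = b * (emb ⟨k, hk⟩ * tEl * (emb ⟨k, hk⟩)⁻¹) * b⁻¹ := by
        group
    _ = g := by rw [e']; group

/-! ### The listed fixed points -/

theorem fixL_ok : (fixL.all fun l => smallL l && inLatL l &&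
    (List.range 24).all fun j => l.getD (fn invCode j) 0 == l.getD j 0) = true := by
  decide +kernel

theorem fixL_length : fixL.length = 105 ∧ fixL.Nodup := by decide +kernel

theorem fixL_mem (i : Fin 105) : fixL.getD i [] ∈ fixL := by
  rw [List.getD_eq_getElem _ _ (by rw [fixL_length.1]; exact i.2)]
  exact List.getElem_mem _

theorem fixL_spec (i : Fin 105) : smallL (fixL.getD i []) = true ∧
    inLatL (fixL.getD i []) = true ∧
    ∀ j < 24, (fixL.getD i []).getD (fn invCode j) 0 = (fixL.getD i []).getD j 0 := by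
  have h := List.all_eq_true.1 fixL_ok _ (fixL_mem i)
  simpa only [Bool.and_eq_true, List.all_eq_true, List.mem_range, beq_iff_eq, and_assoc] using h

/-- A fixed point. -/
def V (i : Fin 105) : leechLattice :=
  ⟨vOf (fixL.getD i []), mem_of_inLatL (fixL_spec i).2.1⟩

theorem smul_V (i : Fin 105) : (tEl : Co0) • V i = V i := by
  refine Subtype.ext (funext fun p => ?_)
  rw [coe_tEl, vec_permEl]
  show (fixL.getD i []).getD (idx (sigma.symm p)) 0 = (fixL.getD i []).getD (idx p) 0
  conv_rhs => rw [← Equiv.apply_symm_apply sigma p, idx_sigma,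
    (fixL_spec i).2.2 _ (idx_lt _)]

theorem V_injective : Function.Injective V := by
  intro i j h
  have e : fixL.getD i [] = fixL.getD j [] := by
    have hl : ∀ i : Fin 105, (fixL.getD i []).length = 24 :=
      fun i => (smallL_spec (fixL_spec i).1).1
    refine List.ext_getElem ((hl i).trans (hl j).symm) fun k hk hk' => ?_
    have := congrFun (congrArg Subtype.val h) (pt k)
    simp only [V, vOf, idx_pt (hl i ▸ hk : k < 24)] at this
    rwa [List.getD_eq_getElem _ _ hk, List.getD_eq_getElem _ _ hk'] at this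
  rw [List.getD_eq_getElem _ _ (by rw [fixL_length.1]; exact i.2),
    List.getD_eq_getElem _ _ (by rw [fixL_length.1]; exact j.2)] at e
  exact Fin.ext (fixL_length.2.getElem_inj_iff.1 e)

theorem exists_V_of_mem {l : List ℤ} (h : fixL.contains l = true) {y : leechLattice}
    (hy : (y : GolayPt → ℤ) = vOf l) : ∃ i, y = V i := by
  obtain ⟨i, hi, e⟩ := List.getElem_of_mem (List.contains_iff_mem.1 h)
  refine ⟨⟨i, by rw [← fixL_length.1]; exact hi⟩, Subtype.ext ?_⟩
  show _ = vOf (fixL.getD i [])
  rw [hy, List.getD_eq_getElem _ _ hi, e]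

/-- A list given by a function of the bit index. -/
def listOf (f : ℕ → ℤ) : List ℤ := (List.range 24).map f

theorem vOf_listOf (f : ℕ → ℤ) (i : GolayPt) : vOf (listOf f) i = f (idx i) := by
  rw [vOf, listOf, List.getD_eq_getElem _ _ (by simpa using idx_lt i)]
  simp

/-- The set is invariant. -/
def invariant (m : ℕ) : Bool := (List.range 24).all fun j => m.testBit (fn invCode j) == m.testBit j

theorem invariant_maskOf {o : Finset GolayPt} (h : sigma • o = o) :
    invariant (maskOf o) = true := by
  refine List.all_eq_true.2 fun j hj => beq_iff_eq.2 ?_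
  rw [List.mem_range] at hj
  have e : sigma (pt j) ∈ o ↔ pt j ∈ o := by
    conv_lhs => rw [← h]
    rw [← Equiv.Perm.smul_def, Finset.smul_mem_smul_finset_iff]
  rw [← pts_maskOf o, mem_pts, mem_pts, idx_sigma, idx_pt hj] at e
  exact Bool.eq_iff_iff.2 e

/-- The list of `octVec o ∅`. -/
def list1 (m : ℕ) : List ℤ := listOf fun j => bif m.testBit j then 2 else 0

/-- The list of `octVec o {pO, r}`. -/
def list2 (m r : ℕ) : List ℤ :=
  listOf fun j => bif m.testBit j then (bif (j == 0 || j == r) then -2 else 2) else 0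

/-- The list of `oddVec k o`. -/
def list3 (m k : ℕ) : List ℤ :=
  listOf fun j => bif m.testBit j then (bif j == k then 3 else -1) else (bif j == k then -3 else 1)

theorem span1 : allSpan (fun m => !(popcount m == 8 && !m.testBit 23 && !m.testBit 0 && invariant m)
    || fixL.contains (list1 m)) rows 0 = true := by decide +kernel

theorem span2 : allSpan (fun m => !(popcount m == 8 && m.testBit 23 && m.testBit 0 && invariant m)
    || (List.range 24).all fun r =>
      !(m.testBit r && r != 23 && r != 0 && fn invCode r == r) || fixL.contains (list2 m r))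
    rows 0 = true := by decide +kernel

theorem span3 : allSpan (fun m => !(popcount m == 8 && !m.testBit 23 && m.testBit 0 && invariant m)
    || (List.range 24).all fun r =>
      !(m.testBit r && r != 0 && fn invCode r == r) || fixL.contains (list3 m r))
    rows 0 = true := by decide +kernel

/-- The fixed points are the listed ones. -/
theorem exists_vec_of_fixed {y : leechLattice} (hy : y ∈ mclPts)
    (hf : (tEl : Co0) • y = y) : ∃ i, y = V i := by
  obtain ⟨c, hc⟩ := mclPts_cases hy
  have m1 : (none : GolayPt) ∈ ({none} : Finset GolayPt) := by simp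
  have hbit : ∀ (o : Finset GolayPt) (p : GolayPt), p ∈ o ↔ (maskOf o).testBit (idx p) = true :=
    fun o p => by rw [← mem_pts, pts_maskOf]
  have hne : ∀ {p q : GolayPt}, p ≠ q → ∀ {n : ℕ}, idx q = n → idx p ≠ n :=
    fun h n e e' => h (idx_injective (e'.trans e.symm))
  rw [coe_tEl] at hf
  have hsmul : ∀ (o : Finset GolayPt), o ∈ octads → sigma • o = o →
      popcount (maskOf o) = 8 ∧ invariant (maskOf o) = true := fun o ho h =>
    ⟨(popcount_maskOf o).trans ho.2, invariant_maskOf h⟩
  fin_cases c
  · obtain rfl : y = baseU' := hc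
    exact ⟨0, Subtype.ext (by decide +kernel)⟩
  · obtain ⟨o, ho, ⟨o1, o2⟩, he⟩ := hc
    have e := congrArg Subtype.val hf
    rw [permEl_smul_octVecM sigma_mem he, he, Finset.smul_finset_empty] at e
    obtain ⟨e8, ei⟩ := hsmul o ho (octVec_inj (Finset.empty_subset _) (Finset.empty_subset _) e).1
    have h := supports_forall span1 ho.1
    rw [hbit o none, idx_marks.1, Bool.not_eq_true] at o1
    rw [hbit o pO, idx_marks.2, Bool.not_eq_true] at o2
    simp only [e8, ei, o1, o2, beq_self_eq_true, Bool.not_false, Bool.and_self, Bool.not_true,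
      Bool.false_or] at h
    refine exists_V_of_mem h ?_
    rw [he]
    funext p
    rw [list1, vOf_listOf, octVec]
    simp only [hbit o, Bool.cond_eq_ite, Finset.notMem_empty, if_false]
  · obtain ⟨o, r, ho, ⟨o1, o2⟩, hr, r1, r2, he⟩ := hc
    have e := congrArg Subtype.val hf
    rw [permEl_smul_octVecM sigma_mem he, he, Finset.smul_finset_insert,
      Finset.smul_finset_singleton, Equiv.Perm.smul_def, Equiv.Perm.smul_def,
      marks_fixed.2.1] at e
    have hsub : ({pO, r} : Finset GolayPt) ⊆ o := by simp [Finset.insert_subset_iff, o2, hr]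
    have hsr : sigma r ∈ sigma • o := Finset.smul_mem_smul_finset hr
    have hpo : pO ∈ sigma • o := by
      have := Finset.smul_mem_smul_finset (a := sigma) o2
      rwa [Equiv.Perm.smul_def, marks_fixed.2.1] at this
    obtain ⟨eo, eM⟩ := octVec_inj (by simp [Finset.insert_subset_iff, hpo, hsr]) hsub e
    have hfr : sigma r = r := by
      have : sigma r ∈ ({pO, r} : Finset GolayPt) := eM ▸ by simp
      simp only [Finset.mem_insert, Finset.mem_singleton] at this
      exact this.resolve_left fun h => r2 (sigma.injective (h.trans marks_fixed.2.1.symm))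
    obtain ⟨e8, ei⟩ := hsmul o ho eo
    have h := supports_forall span2 ho.1
    rw [hbit o none, idx_marks.1] at o1
    rw [hbit o pO, idx_marks.2] at o2
    have hr' := (hbit o r).1 hr
    simp only [e8, ei, o1, o2, beq_self_eq_true, Bool.and_self, Bool.not_true, Bool.false_or,
      List.all_eq_true] at h
    have h' := h (idx r) (List.mem_range.2 (idx_lt r))
    simp only [hr', fn_eq_of_fixed hfr, bne_iff_ne.2 (hne r1 idx_marks.1),
      bne_iff_ne.2 (hne r2 idx_marks.2), beq_self_eq_true, Bool.and_self, Bool.not_true,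
      Bool.false_or] at h'
    refine exists_V_of_mem h' ?_
    rw [he]
    funext p
    rw [list2, vOf_listOf, octVec]
    simp only [hbit o, Bool.cond_eq_ite, Bool.or_eq_true, beq_iff_eq, Finset.mem_insert,
      Finset.mem_singleton, ← idx_marks.2, idx_injective.eq_iff]
  · obtain ⟨o, k, ho, ⟨o1, o2⟩, hk, k2, he⟩ := hc
    have e := congrArg Subtype.val hf
    rw [permEl_smul_oddVec sigma_mem he, he] at e
    obtain ⟨hfk, eo⟩ := oddVec_inj e
    obtain ⟨e8, ei⟩ := hsmul o ho eo
    have h := supports_forall span3 ho.1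
    rw [hbit o none, idx_marks.1, Bool.not_eq_true] at o1
    rw [hbit o pO, idx_marks.2] at o2
    have hk' := (hbit o k).1 hk
    simp only [e8, ei, o1, o2, beq_self_eq_true, Bool.not_false, Bool.and_self, Bool.not_true,
      Bool.false_or, List.all_eq_true] at h
    have h' := h (idx k) (List.mem_range.2 (idx_lt k))
    simp only [hk', fn_eq_of_fixed hfk, bne_iff_ne.2 (hne k2 idx_marks.2), beq_self_eq_true,
      Bool.and_self, Bool.not_true, Bool.false_or] at h'
    refine exists_V_of_mem h' ?_
    rw [he]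
    funext p
    rw [list3, vOf_listOf, oddVec, fvD]
    simp only [hbit o, Bool.cond_eq_ite, beq_iff_eq, idx_injective.eq_iff]
    split_ifs <;> simp

/-- The centraliser of the involution, as a subgroup of `Co0`. -/
noncomputable def tCentralizer : Subgroup Co0 :=
  mclGroup ⊓ Subgroup.centralizer {(tEl : Co0)}

theorem natCard_tCentralizer : Nat.card tCentralizer ≤ 40320 := by
  classical
  have horb : {y | ∃ a ∈ tCentralizer, a • baseU' = y} ⊆ Set.range V := by
    rintro _ ⟨a, ⟨ha, hc⟩, rfl⟩
    have hy : a • baseU' ∈ mclPts := mclGroup_orbit ▸ ⟨a, ha, rfl⟩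
    have hu : (tEl : Co0) • baseU' = baseU' := (stab3_fix (permEl_mem_stab3 sigma_mem
      marks_fixed.1 marks_fixed.2.1)).2.2
    obtain ⟨i, hi⟩ := exists_vec_of_fixed hy (by
      rw [← mul_smul, ← Subgroup.mem_centralizer_singleton_iff.1 hc, mul_smul, hu])
    exact ⟨i, hi.symm⟩
  have h105 : {y | ∃ a ∈ tCentralizer, a • baseU' = y}.ncard ≤ 105 := by
    refine (Set.ncard_le_ncard horb (Set.finite_range V)).trans ?_
    rw [Set.ncard_range_of_injective V_injective, Nat.card_eq_fintype_card, Fintype.card_fin]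
  have hS : Nat.card ↥(tCentralizer ⊓ stabilizer Co0 baseU') ≤ 384 := by
    refine le_trans ?_ natCard_sigmaStab
    have hm : ∀ g : ↥(tCentralizer ⊓ stabilizer Co0 baseU'), g.1 ∈ stab3 :=
      fun g => ⟨g.2.1.1, g.2.2⟩
    let ι : ↥(tCentralizer ⊓ stabilizer Co0 baseU') → sigmaStab := fun g =>
      ⟨(stab3Equiv.symm ⟨g.1, hm g⟩).1, (stab3Equiv.symm ⟨g.1, hm g⟩).2,
        Subgroup.mem_centralizer_singleton_iff.2 (congrArg Subtype.val
          (show stab3Equiv.symm ⟨g.1, hm g⟩ * (⟨sigma, sigma_mem_pointStab2⟩ : pointStab2) =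
            (⟨sigma, sigma_mem_pointStab2⟩ : pointStab2) * stab3Equiv.symm ⟨g.1, hm g⟩ by
            apply stab3Equiv.injective
            simp only [map_mul, MulEquiv.apply_symm_apply]
            exact Subtype.ext (Subgroup.mem_centralizer_singleton_iff.1 g.2.1.2)))⟩
    refine Nat.card_le_card_of_injective ι fun g h e => ?_
    have e' := stab3Equiv.symm.injective (Subtype.ext (congrArg (fun z : sigmaStab => z.1) e) :
      stab3Equiv.symm ⟨g.1, hm g⟩ = stab3Equiv.symm ⟨h.1, hm h⟩)
    exact Subtype.ext (congrArg (fun z : stab3 => z.1) e')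
  have h := ncard_orbit_mul tCentralizer baseU'
  rw [← h]
  exact (Nat.mul_le_mul h105 hS).trans (by norm_num)

end Cfsg.Agent.Leech.McLInvol
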